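import Groth.Agent.H64.Stk.FpFunct
import Groth.Agent.H64.Stk.Whisker

set_option autoImplicit false
open CategoryTheory CategoryTheory.Limits
universe v₇ u₇ v₆ u₆ v₅ u₅ v₄ u₄ v₃ u₃ v₂ u₂ v u

/-! Isomorphisms of functors into a 2-fibre product, and invariance of the relative diagonal under
equivalences. -/

namespace Groth.Agent.H64

open Groth.Agent.H32

variable {C : Type u} [Category.{v} C]

section isoMk

variable {𝒳 : BasedCategory.{v₂, u₂} C} {𝒴 : BasedCategory.{v₃, u₃} C}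
  {𝒮 : BasedCategory.{v₄, u₄} C} {𝒜 : BasedCategory.{v₅, u₅} C}
  (F : 𝒳 ⥤ᵇ 𝒮) (F' : 𝒴 ⥤ᵇ 𝒮)

/-- two functors into a 2-fibre product with compatibly isomorphic components are isomorphic -/
def fpFunctorIsoMk {G H : 𝒜 ⥤ᵇ FibCat.fp F F'}
    (e₁ : BasedFunctor.comp G (FibCat.fpFst F F') ≅ BasedFunctor.comp H (FibCat.fpFst F F'))
    (e₂ : BasedFunctor.comp G (FibCat.fpSnd F F') ≅ BasedFunctor.comp H (FibCat.fpSnd F F'))
    (hc : ∀ a, F.map (bapp e₁.hom a) ≫ (H.obj a).obj.iso.hom =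
      (G.obj a).obj.iso.hom ≫ F'.map (bapp e₂.hom a)) : G ≅ H :=
  mkBIso (fun a => fpIsoMk F F' (z := G.obj a) (z' := H.obj a) (bappIso e₁ a) (bappIso e₂ a) (hc a))
    (fun {a b} m => by
      apply fp_hom_ext
      · exact bapp_naturality e₁.hom m
      · exact bapp_naturality e₂.hom m)
    (fun a => by
      have : 𝒳.p.IsHomLift (𝟙 (𝒜.p.obj a)) (bapp e₁.hom a) := bapp_isHomLift e₁.hom a
      exact @fp_isHomLift_of_fst _ _ _ _ _ F F' _ _ _ _ _ (𝟙 (𝒜.p.obj a)) this)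

end isoMk

section diag

variable {𝒳 : BasedCategory.{v₂, u₂} C} {𝒴 : BasedCategory.{v₃, u₃} C}
  {𝒳' : BasedCategory.{v₄, u₄} C} {𝒴' : BasedCategory.{v₅, u₅} C}
  (f : 𝒳 ⥤ᵇ 𝒴) (f' : 𝒳' ⥤ᵇ 𝒴') (a : 𝒳' ⥤ᵇ 𝒳) (c : 𝒴' ⥤ᵇ 𝒴)
  (α : BasedFunctor.comp f' c ≅ BasedFunctor.comp a f)

/-- the functor `𝒳' ×_{𝒴'} 𝒳' ⟶ 𝒳 ×_𝒴 𝒳` induced by a 2-commutative square -/
def diagSqMap : FibCat.fp f' f' ⥤ᵇ FibCat.fp f f := fpMap f f f' f' a a c α α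

theorem diagSqIso_aux {D : Type*} [Category D] {A B : D} (φi : B ⟶ A) (φ : A ⟶ B)
    (h : φi ≫ φ = 𝟙 B) (g1 : A ⟶ A) (hg1 : g1 = 𝟙 A) (f1 : B ⟶ B) (hf1 : f1 = 𝟙 B) :
    f1 ≫ 𝟙 B = (φi ≫ g1 ≫ φ) ≫ f1 := by
  subst hg1 hf1
  simp [h]

/-- the square of diagonals 2-commutes -/
def diagSqIso : BasedFunctor.comp (FibCat.diag f') (diagSqMap f f' a c α) ≅
    BasedFunctor.comp a (FibCat.diag f) :=
  mkBIso
    (fun x => fpIsoMk f f (z := (diagSqMap f f' a c α).obj ((FibCat.diag f').obj x))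
      (z' := (FibCat.diag f).obj (a.obj x)) (Iso.refl _) (Iso.refl _) (by
        show f.map (𝟙 (a.obj x)) ≫ 𝟙 _ =
          (bapp α.inv x ≫ c.map (𝟙 (f'.obj x)) ≫ bapp α.hom x) ≫ f.map (𝟙 (a.obj x))
        exact diagSqIso_aux _ _ (bapp_iso_inv_hom α x) _ (c.map_id _) _ (f.map_id _)))
    (fun {x x'} m => by
      apply fp_hom_ext
      · show a.map m ≫ 𝟙 _ = 𝟙 _ ≫ a.map m
        simp
      · show a.map m ≫ 𝟙 _ = 𝟙 _ ≫ a.map m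
        simp)
    (fun x => by
      have : 𝒳.p.IsHomLift (𝟙 (𝒳'.p.obj x)) (𝟙 (a.obj x)) := IsHomLift.id (a.w_obj x)
      exact @fp_isHomLift_of_fst _ _ _ _ _ f f _ _ _ _ _ (𝟙 (𝒳'.p.obj x)) this)

theorem isEquivOver_diagSqMap (ha : FibCat.IsEquivOver a) [c.toFunctor.Full]
    [c.toFunctor.Faithful] : FibCat.IsEquivOver (diagSqMap f f' a c α) :=
  isEquivOver_fpMap f f f' f' a a c α α ha ha

end diag

end Groth.Agent.H64
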