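import Groth.Agent.H64.OverMapRep

set_option autoImplicit false
open CategoryTheory CategoryTheory.Limits
universe v u

namespace Groth.Agent.H64

open Groth.Agent.H32

variable {C : Type u} [Category.{v} C]

/-- whiskering an iso of based functors on the right -/
def bWhiskerRightIso {𝒳 𝒴 𝒵 : BasedCategory.{v, max u v} C} {F G : 𝒳 ⥤ᵇ 𝒴} (e : F ≅ G)
    (H : 𝒴 ⥤ᵇ 𝒵) : BasedFunctor.comp F H ≅ BasedFunctor.comp G H :=
  Bicategory.whiskerRightIso (B := BasedCategory.{v, max u v} C) e H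

/-- whiskering an iso of based functors on the left -/
def bWhiskerLeftIso {𝒳 𝒴 𝒵 : BasedCategory.{v, max u v} C} (H : 𝒳 ⥤ᵇ 𝒴) {F G : 𝒴 ⥤ᵇ 𝒵}
    (e : F ≅ G) : BasedFunctor.comp H F ≅ BasedFunctor.comp H G :=
  Bicategory.whiskerLeftIso (B := BasedCategory.{v, max u v} C) H e

theorem repUnique_aux {D : Type*} [Category D] {A : D} (f : A ⟶ A)
    (hf : f = eqToHom rfl ≫ 𝟙 A ≫ eqToHom rfl) : f = 𝟙 A := by
  simpa using hf

/-- a based iso `ovMap h ≅ id` forces `h = 𝟙` -/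
theorem eq_id_of_ovMap_iso_id {X : C} (h : X ⟶ X)
    (θ : ovMap h ≅ BasedFunctor.id (FibCat.overCat X)) : h = 𝟙 X := by
  have h1 : (Over.forget X).IsHomLift (𝟙 X) (bapp θ.hom (Over.mk (𝟙 X))) :=
    bapp_isHomLift' θ.hom (Over.mk (𝟙 X)) rfl
  let m : Over.mk (𝟙 X ≫ h) ⟶ Over.mk (𝟙 X) := bapp θ.hom (Over.mk (𝟙 X))
  have h2 : m.left = 𝟙 X :=
    repUnique_aux m.left (IsHomLift.fac' (Over.forget X) (𝟙 X) (bapp θ.hom (Over.mk (𝟙 X))))
  have h3 : (𝟙 X : X ⟶ X) ≫ (𝟙 X : X ⟶ X) = (𝟙 X : X ⟶ X) ≫ h := by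
    have h4 : m.left ≫ 𝟙 X = 𝟙 X ≫ h := Over.w m
    rw [h2] at h4
    exact h4
  rw [Category.id_comp, Category.id_comp] at h3
  exact h3.symm

/-- `ovMap g ⋙ ovMap g' ≅ ovMap (g ≫ g')` -/
def ovMapCompIso {X Y Z : C} (g : X ⟶ Y) (g' : Y ⟶ Z) :
    BasedFunctor.comp (ovMap g) (ovMap g') ≅ ovMap (g ≫ g') :=
  BasedNatIso.mkNatIso
    (NatIso.ofComponents
      (fun t => Over.isoMk (Iso.refl t.left) (by
        change 𝟙 _ ≫ (t.hom ≫ g ≫ g') = (t.hom ≫ g) ≫ g'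
        simp))
      (by
        intro t t' m
        apply Over.OverMorphism.ext
        change m.left ≫ 𝟙 _ = 𝟙 _ ≫ m.left
        simp))
    (fun t => IsHomLift.of_fac (Over.forget Z) _ _ rfl rfl (by
      change 𝟙 _ = eqToHom rfl ≫ 𝟙 _ ≫ eqToHom rfl
      simp))

theorem exists_iso_representing {𝒮 : BasedCategory.{v, max u v} C}
    {X X' : C} (j : 𝒮 ⥤ᵇ FibCat.overCat X) (j' : 𝒮 ⥤ᵇ FibCat.overCat X')
    (hj : FibCat.IsEquivOver j) (hj' : FibCat.IsEquivOver j') :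
    ∃ e : X' ≅ X, Nonempty (BasedFunctor.comp j' (ovMap e.hom) ≅ j) := by
  obtain ⟨d⟩ := IsEquivOver.nonempty_data hj
  obtain ⟨d'⟩ := IsEquivOver.nonempty_data hj'
  obtain ⟨g, ⟨θ⟩⟩ := exists_iso_ovMap (BasedFunctor.comp d'.inv j)
  obtain ⟨g', ⟨θ'⟩⟩ := exists_iso_ovMap (BasedFunctor.comp d.inv j')
  have I1 : BasedFunctor.comp (ovMap g) (ovMap g') ≅ BasedFunctor.id (FibCat.overCat X') :=
    (bWhiskerRightIso θ.symm (ovMap g')) ≪≫
      (bWhiskerLeftIso (BasedFunctor.comp d'.inv j) θ'.symm) ≪≫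
      (show BasedFunctor.comp d'.inv (BasedFunctor.comp (BasedFunctor.comp j d.inv) j') ≅
          BasedFunctor.comp d'.inv (BasedFunctor.comp (BasedFunctor.id 𝒮) j') from
        bWhiskerLeftIso d'.inv (bWhiskerRightIso d.unit j')) ≪≫ d'.counit
  have I2 : BasedFunctor.comp (ovMap g') (ovMap g) ≅ BasedFunctor.id (FibCat.overCat X) :=
    (bWhiskerRightIso θ'.symm (ovMap g)) ≪≫
      (bWhiskerLeftIso (BasedFunctor.comp d.inv j') θ.symm) ≪≫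
      (show BasedFunctor.comp d.inv (BasedFunctor.comp (BasedFunctor.comp j' d'.inv) j) ≅
          BasedFunctor.comp d.inv (BasedFunctor.comp (BasedFunctor.id 𝒮) j) from
        bWhiskerLeftIso d.inv (bWhiskerRightIso d'.unit j)) ≪≫ d.counit
  have h1 : g ≫ g' = 𝟙 X' := eq_id_of_ovMap_iso_id _ ((ovMapCompIso g g').symm ≪≫ I1)
  have h2 : g' ≫ g = 𝟙 X := eq_id_of_ovMap_iso_id _ ((ovMapCompIso g' g).symm ≪≫ I2)
  refine ⟨⟨g, g', h1, h2⟩, ⟨?_⟩⟩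
  exact (bWhiskerLeftIso j' θ.symm) ≪≫
    (show BasedFunctor.comp (BasedFunctor.comp j' d'.inv) j ≅
        BasedFunctor.comp (BasedFunctor.id 𝒮) j from bWhiskerRightIso d'.unit j)

end Groth.Agent.H64
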