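import Groth.Agent.H64.OverMapRep
import Groth.Agent.H64.Stk.LocEss
import Groth.Agent.H64.Stk.FpStack
import Groth.Agent.H26.FpSelf

set_option autoImplicit false
open CategoryTheory CategoryTheory.Limits
universe v u

namespace Groth.Agent.H64

open Groth.Agent.H32 Groth.Agent.H26

variable {C : Type u} [Category.{v} C]

section prod
variable [HasBinaryProducts C] (V U : C)

/-- the 2-isomorphism filling the square of slices over a product -/
noncomputable def ovProdIso :
    BasedFunctor.comp (ovMap (prod.fst : V ⨯ U ⟶ V)) (FibCat.toSelf (FibCat.overCat V)) ≅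
    BasedFunctor.comp (ovMap (prod.snd : V ⨯ U ⟶ U)) (FibCat.toSelf (FibCat.overCat U)) :=
  BasedNatIso.mkNatIso
    (NatIso.ofComponents
      (fun t => Iso.refl t.left)
      (by
        intro t t' m
        change m.left ≫ 𝟙 _ = 𝟙 _ ≫ m.left
        simp))
    (fun t => IsHomLift.of_fac (𝟭 C) _ _ rfl rfl (by
      change 𝟙 _ = eqToHom rfl ≫ 𝟙 _ ≫ eqToHom rfl
      simp))

/-- the comparison functor `C/(V × U) ⥤ C/V ×_C C/U` -/
noncomputable def ovProdLift : FibCat.overCat (V ⨯ U) ⥤ᵇ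
    FibCat.fp (FibCat.toSelf (FibCat.overCat V)) (FibCat.toSelf (FibCat.overCat U)) :=
  FibCat.fpLift (ovMap prod.fst) (ovMap prod.snd) (ovProdIso V U)

theorem ovProdLift_faithful : (ovProdLift V U).toFunctor.Faithful := by
  refine ⟨fun {t t'} m m' h => ?_⟩
  have h1 : ((ovProdLift V U).map m).hom.fst.left = ((ovProdLift V U).map m').hom.fst.left :=
    congrArg (fun z => z.hom.fst.left) h
  apply Over.OverMorphism.ext
  exact h1

theorem ovProdLift_full : (ovProdLift V U).toFunctor.Full := by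
  refine ⟨fun {t t'} φ => ?_⟩
  have hw := φ.hom.w
  have h12 : φ.hom.fst.left = φ.hom.snd.left := by
    have : φ.hom.fst.left ≫ 𝟙 _ = 𝟙 _ ≫ φ.hom.snd.left := hw
    simpa using this
  have w1 : φ.hom.fst.left ≫ (t'.hom ≫ prod.fst) = t.hom ≫ prod.fst :=
    Over.w φ.hom.fst
  have w2 : φ.hom.snd.left ≫ (t'.hom ≫ prod.snd) = t.hom ≫ prod.snd :=
    Over.w φ.hom.snd
  let l : t.left ⟶ t'.left := φ.hom.fst.left
  have hl : l ≫ t'.hom = t.hom := by
    apply Limits.prod.hom_ext
    · rw [Category.assoc]; exact w1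
    · rw [Category.assoc]; show φ.hom.fst.left ≫ _ = _; rw [h12]; exact w2
  refine ⟨Over.homMk l hl, ?_⟩
  apply fp_hom_ext
  · apply Over.OverMorphism.ext
    rfl
  · apply Over.OverMorphism.ext
    exact h12

theorem ovProdLift_essSurj
    (η : (FibCat.fp (FibCat.toSelf (FibCat.overCat V)) (FibCat.toSelf (FibCat.overCat U))).obj) :
    ∃ (ξ : (FibCat.overCat (V ⨯ U)).obj) (e : (ovProdLift V U).obj ξ ≅ η),
      (FibCat.fp (FibCat.toSelf (FibCat.overCat V)) (FibCat.toSelf (FibCat.overCat U))).p.IsHomLift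
        (𝟙 ((FibCat.fp (FibCat.toSelf (FibCat.overCat V))
          (FibCat.toSelf (FibCat.overCat U))).p.obj η)) e.hom := by
  let a : Over V := η.obj.fst
  let b : Over U := η.obj.snd
  let s : a.left ≅ b.left := η.obj.iso
  let ξ : Over (V ⨯ U) := Over.mk (prod.lift a.hom (s.hom ≫ b.hom))
  let e₁ : ((ovProdLift V U).obj ξ).obj.fst ≅ η.obj.fst :=
    Over.isoMk (Iso.refl a.left) (by
      change 𝟙 _ ≫ a.hom = prod.lift a.hom (s.hom ≫ b.hom) ≫ prod.fst
      rw [Category.id_comp, prod.lift_fst])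
  let e₂ : ((ovProdLift V U).obj ξ).obj.snd ≅ η.obj.snd :=
    Over.isoMk s (by
      change s.hom ≫ b.hom = prod.lift a.hom (s.hom ≫ b.hom) ≫ prod.snd
      rw [prod.lift_snd])
  let e : (ovProdLift V U).obj ξ ≅ η :=
    fpIsoMk (FibCat.toSelf (FibCat.overCat V)) (FibCat.toSelf (FibCat.overCat U)) e₁ e₂ (by
      change 𝟙 _ ≫ s.hom = 𝟙 _ ≫ s.hom
      rfl)
  refine ⟨ξ, e, ?_⟩
  have : (FibCat.overCat V).p.IsHomLift (𝟙 a.left) e.hom.hom.fst :=
    IsHomLift.of_fac (Over.forget V) _ _ rfl rfl (by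
      change 𝟙 _ = eqToHom rfl ≫ 𝟙 _ ≫ eqToHom rfl
      simp)
  exact fp_isHomLift_of_fst (FibCat.toSelf (FibCat.overCat V)) (FibCat.toSelf (FibCat.overCat U))
    e.hom (𝟙 a.left)

theorem isEquivOver_ovProdLift : FibCat.IsEquivOver (ovProdLift V U) := by
  have := ovProdLift_full V U
  have := ovProdLift_faithful V U
  exact isEquivOver_of_fullyFaithful_of_fiberwise_essSurj _ (fun η => ovProdLift_essSurj V U η)

end prod

end Groth.Agent.H64
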