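import Groth.Agent.H64.Fib.Magic
import Groth.Agent.H64.Fib.SliceProd
import Groth.Agent.H64.Fib.RepUnique

set_option autoImplicit false
open CategoryTheory CategoryTheory.Limits
universe v₇ u₇ v₆ u₆ v₅ u₅ v₄ u₄ v₃ u₃ v₂ u₂ v u

namespace Groth.Agent.H64

open Groth.Agent.H32 Groth.Agent.H26

variable {C : Type u} [Category.{v} C]

section canon

variable {𝒜 : BasedCategory.{v₂, u₂} C} {ℬ : BasedCategory.{v₃, u₃} C}
  {𝒮 : BasedCategory.{v₄, u₄} C}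

theorem basedFunctor_ext {F G : 𝒜 ⥤ᵇ 𝒮} (h : F.toFunctor = G.toFunctor) : F = G := by
  cases F
  cases G
  simp only at h
  subst h
  rfl

theorem comp_toSelf (a : 𝒜 ⥤ᵇ 𝒮) : BasedFunctor.comp a (FibCat.toSelf 𝒮) = FibCat.toSelf 𝒜 :=
  basedFunctor_ext a.w

/-- the canonical 2-isomorphism needed to form `a × b` -/
theorem nonempty_canonE (a : 𝒜 ⥤ᵇ 𝒮) (b : ℬ ⥤ᵇ 𝒮) :
    Nonempty (BasedFunctor.comp
      (BasedFunctor.comp (FibCat.fpFst (FibCat.toSelf 𝒜) (FibCat.toSelf ℬ)) a)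
      (FibCat.toSelf 𝒮) ≅
    BasedFunctor.comp (BasedFunctor.comp (FibCat.fpSnd (FibCat.toSelf 𝒜) (FibCat.toSelf ℬ)) b)
      (FibCat.toSelf 𝒮)) := by
  have h1 : BasedFunctor.comp
      (BasedFunctor.comp (FibCat.fpFst (FibCat.toSelf 𝒜) (FibCat.toSelf ℬ)) a)
      (FibCat.toSelf 𝒮) =
      BasedFunctor.comp (FibCat.fpFst (FibCat.toSelf 𝒜) (FibCat.toSelf ℬ)) (FibCat.toSelf 𝒜) :=
    congrArg (BasedFunctor.comp (FibCat.fpFst (FibCat.toSelf 𝒜) (FibCat.toSelf ℬ)))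
      (comp_toSelf a)
  have h2 : BasedFunctor.comp
      (BasedFunctor.comp (FibCat.fpSnd (FibCat.toSelf 𝒜) (FibCat.toSelf ℬ)) b)
      (FibCat.toSelf 𝒮) =
      BasedFunctor.comp (FibCat.fpSnd (FibCat.toSelf 𝒜) (FibCat.toSelf ℬ)) (FibCat.toSelf ℬ) :=
    congrArg (BasedFunctor.comp (FibCat.fpSnd (FibCat.toSelf 𝒜) (FibCat.toSelf ℬ)))
      (comp_toSelf b)
  exact ⟨eqToIso h1 ≪≫ FibCat.fpIso (FibCat.toSelf 𝒜) (FibCat.toSelf ℬ) ≪≫ eqToIso h2.symm⟩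

end canon

section iso

variable {𝒳 : BasedCategory.{v₂, u₂} C} {𝒴 : BasedCategory.{v₃, u₃} C}
  {𝒲 : BasedCategory.{v₄, u₄} C}

/-- the 2-fibre product only depends on the functors up to isomorphism -/
theorem exists_equiv_fp_of_iso {G G' : 𝒲 ⥤ᵇ 𝒴} {F F' : 𝒳 ⥤ᵇ 𝒴} (ν : G ≅ G') (μ : F ≅ F') :
    ∃ Ψ : FibCat.fp G F ⥤ᵇ FibCat.fp G' F', FibCat.IsEquivOver Ψ := by
  have : (BasedFunctor.id 𝒴).toFunctor.Full := (inferInstance : (𝟭 𝒴.obj).Full)
  have : (BasedFunctor.id 𝒴).toFunctor.Faithful := (inferInstance : (𝟭 𝒴.obj).Faithful)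
  exact ⟨fpMap G' F' G F (BasedFunctor.id _) (BasedFunctor.id _) (BasedFunctor.id _) ν μ,
    isEquivOver_fpMap G' F' G F (BasedFunctor.id _) (BasedFunctor.id _) (BasedFunctor.id _) ν μ
      (isEquivOver_id _) (isEquivOver_id _)⟩

theorem isRepresentable1_of_iso {F F' : 𝒳 ⥤ᵇ 𝒴} (μ : F ≅ F') (hF : FibCat.IsRepresentable1 F) :
    FibCat.IsRepresentable1 F' := by
  intro U G
  obtain ⟨Ψ, hΨ⟩ := exists_equiv_fp_of_iso (Iso.refl G) μ
  exact isRepresentable_of_isEquivOver' hΨ (hF U G)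

end iso

section slices

/-- every functor over `C` between slices is a representable 1-morphism -/
theorem isRepresentable1_of_slices [HasPullbacks C] {Q Y : C}
    (f : FibCat.overCat Q ⥤ᵇ FibCat.overCat Y) : FibCat.IsRepresentable1 f := by
  obtain ⟨g, ⟨ν⟩⟩ := exists_iso_ovMap f
  exact isRepresentable1_of_iso ν.symm (isRepresentable1_ovMap g)

end slices

section decomp

variable {𝒲 : BasedCategory.{v₂, u₂} C} {𝒮 : BasedCategory.{v₄, u₄} C}
  (z : 𝒲 ⥤ᵇ FibCat.fp (FibCat.toSelf 𝒮) (FibCat.toSelf 𝒮))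
  (e : BasedFunctor.comp (BasedFunctor.comp (FibCat.fpFst (FibCat.toSelf 𝒲) (FibCat.toSelf 𝒲))
        (BasedFunctor.comp z (FibCat.fpFst (FibCat.toSelf 𝒮) (FibCat.toSelf 𝒮))))
      (FibCat.toSelf 𝒮) ≅
    BasedFunctor.comp (BasedFunctor.comp (FibCat.fpSnd (FibCat.toSelf 𝒲) (FibCat.toSelf 𝒲))
        (BasedFunctor.comp z (FibCat.fpSnd (FibCat.toSelf 𝒮) (FibCat.toSelf 𝒮))))
      (FibCat.toSelf 𝒮))

/-- every functor to `𝒮 × 𝒮` is the product of its components precomposed with the diagonal -/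
def decompIso : z ≅ BasedFunctor.comp (FibCat.diag (FibCat.toSelf 𝒲))
    (prodF (BasedFunctor.comp z (FibCat.fpFst (FibCat.toSelf 𝒮) (FibCat.toSelf 𝒮)))
      (BasedFunctor.comp z (FibCat.fpSnd (FibCat.toSelf 𝒮) (FibCat.toSelf 𝒮))) e) :=
  mkBIso
    (fun w => fpIsoMk (FibCat.toSelf 𝒮) (FibCat.toSelf 𝒮) (Iso.refl _) (Iso.refl _) (by
      have hz : (FibCat.selfOver C).p.IsHomLift (𝟙 (𝒲.p.obj w)) (z.obj w).obj.iso.hom :=
        lift_id_of_eq (z.w_obj w)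
          (fp_iso_isHomLift (FibCat.toSelf 𝒮) (FibCat.toSelf 𝒮) (z.obj w))
      have hP : (FibCat.selfOver C).p.IsHomLift (𝟙 (𝒲.p.obj w))
          (((BasedFunctor.comp (FibCat.diag (FibCat.toSelf 𝒲))
            (prodF (BasedFunctor.comp z (FibCat.fpFst (FibCat.toSelf 𝒮) (FibCat.toSelf 𝒮)))
              (BasedFunctor.comp z (FibCat.fpSnd (FibCat.toSelf 𝒮) (FibCat.toSelf 𝒮))) e)).obj
                w).obj.iso.hom) :=
        lift_id_of_eq ((BasedFunctor.comp (FibCat.diag (FibCat.toSelf 𝒲))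
            (prodF (BasedFunctor.comp z (FibCat.fpFst (FibCat.toSelf 𝒮) (FibCat.toSelf 𝒮)))
              (BasedFunctor.comp z (FibCat.fpSnd (FibCat.toSelf 𝒮) (FibCat.toSelf 𝒮))) e)).w_obj w)
          (fp_iso_isHomLift (FibCat.toSelf 𝒮) (FibCat.toSelf 𝒮)
            ((BasedFunctor.comp (FibCat.diag (FibCat.toSelf 𝒲))
            (prodF (BasedFunctor.comp z (FibCat.fpFst (FibCat.toSelf 𝒮) (FibCat.toSelf 𝒮)))
              (BasedFunctor.comp z (FibCat.fpSnd (FibCat.toSelf 𝒮) (FibCat.toSelf 𝒮))) e)).obj w))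
      have h1 : (FibCat.selfOver C).p.IsHomLift (𝟙 (𝒲.p.obj w))
          ((FibCat.toSelf 𝒮).map (Iso.refl (z.obj w).obj.fst).hom) := by
        have : 𝒮.p.IsHomLift (𝟙 (𝒲.p.obj w)) (Iso.refl (z.obj w).obj.fst).hom :=
          lift_id_of_obj 𝒮.p
            ((BasedFunctor.comp z (FibCat.fpFst (FibCat.toSelf 𝒮) (FibCat.toSelf 𝒮))).w_obj w)
        exact BasedFunctor.preserves_isHomLift (FibCat.toSelf 𝒮) _ _
      have h2 : (FibCat.selfOver C).p.IsHomLift (𝟙 (𝒲.p.obj w))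
          ((FibCat.toSelf 𝒮).map (Iso.refl (z.obj w).obj.snd).hom) := by
        have : 𝒮.p.IsHomLift (𝟙 (𝒲.p.obj w)) (Iso.refl (z.obj w).obj.snd).hom :=
          lift_id_of_obj 𝒮.p
            ((BasedFunctor.comp z (FibCat.fpSnd (FibCat.toSelf 𝒮) (FibCat.toSelf 𝒮))).w_obj w)
        exact BasedFunctor.preserves_isHomLift (FibCat.toSelf 𝒮) _ _
      have hL := lift_id_comp_id (FibCat.selfOver C).p h1 hP
      have hR := lift_id_comp_id (FibCat.selfOver C).p hz h2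
      exact @self_hom_ext _ _ _ _ (𝟙 (𝒲.p.obj w)) _ _ _ _ hL hR))
    (fun {w w'} m => by
      apply fp_hom_ext
      · show (z.map m).hom.fst ≫ 𝟙 _ = 𝟙 _ ≫ (z.map m).hom.fst
        rw [Category.comp_id, Category.id_comp]
      · show (z.map m).hom.snd ≫ 𝟙 _ = 𝟙 _ ≫ (z.map m).hom.snd
        rw [Category.comp_id, Category.id_comp])
    (fun w => by
      have : 𝒮.p.IsHomLift (𝟙 (𝒲.p.obj w)) (Iso.refl (z.obj w).obj.fst).hom :=
        lift_id_of_obj 𝒮.p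
          ((BasedFunctor.comp z (FibCat.fpFst (FibCat.toSelf 𝒮) (FibCat.toSelf 𝒮))).w_obj w)
      exact @fp_isHomLift_of_fst _ _ _ _ _ (FibCat.toSelf 𝒮) (FibCat.toSelf 𝒮) _ _ _ _ _
        (𝟙 (𝒲.p.obj w)) this)

end decomp

section main

variable [HasBinaryProducts C] [HasPullbacks C] {𝒮 : BasedCategory.{v, max u v} C}

omit [HasPullbacks C] in
theorem isRepresentable1_of_diag
    (hΔ : FibCat.IsRepresentable1 (FibCat.diag (FibCat.toSelf 𝒮)))
    (U : C) (G : FibCat.overCat U ⥤ᵇ 𝒮) : FibCat.IsRepresentable1 G := by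
  intro V y
  obtain ⟨e⟩ := nonempty_canonE y G
  have hE := isEquivOver_ovProdLift V U
  have h1 : FibCat.IsRepresentable
      (FibCat.fp (BasedFunctor.comp (ovProdLift V U) (prodF y G e))
        (FibCat.diag (FibCat.toSelf 𝒮))) := hΔ (V ⨯ U) _
  obtain ⟨Ψ, hΨ, -⟩ := isEquivOver_fpMap_left (FibCat.diag (FibCat.toSelf 𝒮)) (prodF y G e)
    (ovProdLift V U) hE
  have h2 : FibCat.IsRepresentable (FibCat.fp (prodF y G e) (FibCat.diag (FibCat.toSelf 𝒮))) :=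
    isRepresentable_of_isEquivOver' hΨ h1
  exact isRepresentable_of_isEquivOver' (isEquivOver_magicN y G e) h2

theorem isRepresentable1_diag_of_forall
    (hG : ∀ (U : C) (G : FibCat.overCat U ⥤ᵇ 𝒮), FibCat.IsRepresentable1 G) :
    FibCat.IsRepresentable1 (FibCat.diag (FibCat.toSelf 𝒮)) := by
  intro W z
  obtain ⟨e⟩ := nonempty_canonE
    (BasedFunctor.comp z (FibCat.fpFst (FibCat.toSelf 𝒮) (FibCat.toSelf 𝒮)))
    (BasedFunctor.comp z (FibCat.fpSnd (FibCat.toSelf 𝒮) (FibCat.toSelf 𝒮)))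
  set z₁ := BasedFunctor.comp z (FibCat.fpFst (FibCat.toSelf 𝒮) (FibCat.toSelf 𝒮)) with hz₁
  set z₂ := BasedFunctor.comp z (FibCat.fpSnd (FibCat.toSelf 𝒮) (FibCat.toSelf 𝒮)) with hz₂
  obtain ⟨Q, Φ, hΦ⟩ := hG W z₂ W z₁
  have ha : FibCat.IsEquivOver (BasedFunctor.comp (magicN z₁ z₂ e) Φ) :=
    isEquivOver_comp (isEquivOver_magicN z₁ z₂ e) hΦ
  obtain ⟨da⟩ := IsEquivOver.nonempty_data ha
  obtain ⟨dE⟩ := IsEquivOver.nonempty_data (isEquivOver_ovProdLift W W)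
  have hb : FibCat.IsEquivOver dE.inv := isEquivOver_inv dE
  have hf : FibCat.IsRepresentable1
      (BasedFunctor.comp (BasedFunctor.comp da.inv
        (FibCat.fpFst (prodF z₁ z₂ e) (FibCat.diag (FibCat.toSelf 𝒮)))) dE.inv) :=
    isRepresentable1_of_slices _
  have esq : BasedFunctor.comp (FibCat.fpFst (prodF z₁ z₂ e) (FibCat.diag (FibCat.toSelf 𝒮)))
        dE.inv ≅
      BasedFunctor.comp (BasedFunctor.comp (magicN z₁ z₂ e) Φ)
        (BasedFunctor.comp (BasedFunctor.comp da.inv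
          (FibCat.fpFst (prodF z₁ z₂ e) (FibCat.diag (FibCat.toSelf 𝒮)))) dE.inv) :=
    (bWhiskerRightIso da.unit
      (BasedFunctor.comp (FibCat.fpFst (prodF z₁ z₂ e) (FibCat.diag (FibCat.toSelf 𝒮)))
        dE.inv)).symm
  have hf' : FibCat.IsRepresentable1
      (FibCat.fpFst (prodF z₁ z₂ e) (FibCat.diag (FibCat.toSelf 𝒮))) :=
    isRepresentable1_of_square _ _ _ _ ha hb esq hf
  have h1 : FibCat.IsRepresentable
      (FibCat.fp (FibCat.diag (FibCat.toSelf (FibCat.overCat W)))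
        (FibCat.fpFst (prodF z₁ z₂ e) (FibCat.diag (FibCat.toSelf 𝒮)))) := hf' W _
  have h2 : FibCat.IsRepresentable
      (FibCat.fp (BasedFunctor.comp (FibCat.diag (FibCat.toSelf (FibCat.overCat W)))
        (prodF z₁ z₂ e)) (FibCat.diag (FibCat.toSelf 𝒮))) :=
    isRepresentable_of_isEquivOver (isEquivOver_fpPaste (FibCat.diag (FibCat.toSelf 𝒮))
      (prodF z₁ z₂ e) (FibCat.diag (FibCat.toSelf (FibCat.overCat W)))) h1
  obtain ⟨Ψ, hΨ⟩ := exists_equiv_fp_of_iso (decompIso z e)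
    (Iso.refl (FibCat.diag (FibCat.toSelf 𝒮)))
  exact isRepresentable_of_isEquivOver hΨ h2

theorem isRepresentable1_diag_iff :
    FibCat.IsRepresentable1 (FibCat.diag (FibCat.toSelf 𝒮)) ↔
      ∀ (U : C) (G : FibCat.overCat U ⥤ᵇ 𝒮), FibCat.IsRepresentable1 G :=
  ⟨isRepresentable1_of_diag, isRepresentable1_diag_of_forall⟩

end main

end Groth.Agent.H64
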