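import Groth.Agent.H64.DiagBC
import Groth.Agent.H64.Stk.Whisker

set_option autoImplicit false
open CategoryTheory CategoryTheory.Limits
universe v₄ u₄ v₃ u₃ v₂ u₂ v u

/-! Every object of `𝒳 ×_𝒴 𝒳` over `𝒜` lifts to `𝒫 ×_𝒜 𝒫` for `𝒫 = 𝒜 ×_𝒴 𝒳`. -/

namespace Groth.Agent.H64

open Groth.Agent.H32

variable {C : Type u} [Category.{v} C]
variable {𝒳 : BasedCategory.{v₂, u₂} C} {𝒴 : BasedCategory.{v₃, u₃} C} {𝒜 : BasedCategory.{v₄, u₄} C}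
variable (f : 𝒳 ⥤ᵇ 𝒴) (y : 𝒜 ⥤ᵇ FibCat.fp f f)

/-- the composite `𝒜 ⟶ 𝒳 ×_𝒴 𝒳 ⟶ 𝒳 ⟶ 𝒴` (first projection) -/
abbrev dlW : 𝒜 ⥤ᵇ 𝒴 := BasedFunctor.comp (BasedFunctor.comp y (FibCat.fpFst f f)) f

/-- the first section of `𝒜 ×_𝒴 𝒳 ⟶ 𝒜` -/
def dlS₁ : 𝒜 ⥤ᵇ FibCat.fp (dlW f y) f :=
  FibCat.fpLift (F := dlW f y) (G := f) (BasedFunctor.id 𝒜)
    (BasedFunctor.comp y (FibCat.fpFst f f)) (Iso.refl _)

/-- the second section of `𝒜 ×_𝒴 𝒳 ⟶ 𝒜` -/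
def dlS₂ : 𝒜 ⥤ᵇ FibCat.fp (dlW f y) f :=
  FibCat.fpLift (F := dlW f y) (G := f) (BasedFunctor.id 𝒜)
    (BasedFunctor.comp y (FibCat.fpSnd f f)) (bwlIso y (FibCat.fpIso f f))

/-- the lift of `y` -/
def dlLift : 𝒜 ⥤ᵇ FibCat.fp (FibCat.fpFst (dlW f y) f) (FibCat.fpFst (dlW f y) f) :=
  FibCat.fpLift (F := FibCat.fpFst (dlW f y) f) (G := FibCat.fpFst (dlW f y) f)
    (dlS₁ f y) (dlS₂ f y) (Iso.refl _)

theorem dl_aux {D : Type*} [Category D] {A B : D} (φ : A ⟶ B) (i : A ⟶ A) (hi : i = 𝟙 A)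
    (j : A ⟶ A) (hj : j = 𝟙 A) (g1 : A ⟶ A) (hg1 : g1 = 𝟙 A) (g2 : B ⟶ B) (hg2 : g2 = 𝟙 B) :
    g1 ≫ φ = (i ≫ j ≫ φ) ≫ g2 := by
  subst hi hj hg1 hg2
  simp

/-- the lift of `y` maps to `y` -/
def dlIso : BasedFunctor.comp (dlLift f y) (diagBCq f (dlW f y)) ≅ y :=
  mkBIso
    (fun t => fpIsoMk f f (z := (diagBCq f (dlW f y)).obj ((dlLift f y).obj t)) (z' := y.obj t)
      (Iso.refl _) (Iso.refl _) (by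
        rw [diagBCq_obj_iso_hom]
        refine dl_aux _ _ ?_ _ ?_ _ (f.map_id _) _ (f.map_id _)
        · rfl
        · exact (dlW f y).map_id _))
    (fun {t t'} m => by
      apply fp_hom_ext
      · show (y.map m).hom.fst ≫ 𝟙 _ = 𝟙 _ ≫ (y.map m).hom.fst
        simp
      · show (y.map m).hom.snd ≫ 𝟙 _ = 𝟙 _ ≫ (y.map m).hom.snd
        simp)
    (fun t => by
      have : 𝒳.p.IsHomLift (𝟙 (𝒜.p.obj t)) (𝟙 (y.obj t).obj.fst) :=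
        IsHomLift.id ((BasedFunctor.comp y (FibCat.fpFst f f)).w_obj t)
      exact @fp_isHomLift_of_fst _ _ _ _ _ f f _ _ _ _ _ (𝟙 (𝒜.p.obj t)) this)

end Groth.Agent.H64
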