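import Groth.Agent.H64.Stk.LocEss
import Groth.Agent.H64.Stk.OfPsh
import Groth.Agent.H32.FibSet

set_option autoImplicit false
open CategoryTheory Opposite
universe v₂ u₂ v u

/-! A category fibred in setoids is equivalent over the base to the category fibred in sets of its
presheaf of isomorphism classes. -/

namespace Groth.Agent.H64.SetoidSet

variable {C : Type u} [Category.{v} C]

section Discrete

universe w

/-- the category of a presheaf is fibred in sets -/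
theorem isFibSet_ofPsh (P : Cᵒᵖ ⥤ Type w) : FibCat.IsFibSet (Stk.ofPsh P).p := by
  refine ⟨Stk.isFibGrpd_ofPsh P, fun U => ?_⟩
  have key : ∀ (X Y : (Stk.ofPsh P).p.Fiber U) (φ : X ⟶ Y), X = Y := by
    rintro ⟨⟨bx, sx⟩, hx⟩ ⟨⟨by', sy⟩, hy⟩ ⟨φ, hφ⟩
    change bx = U at hx
    change by' = U at hy
    subst hx
    subst hy
    have h1 : φ.hom = 𝟙 _ := by
      have := IsHomLift.fac' (Stk.ofPsh P).p (𝟙 by') φ
      simp only [Category.id_comp, eqToHom_trans] at this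
      exact this.trans rfl
    have h2 := φ.map_sec
    rw [h1] at h2
    simp only [op_id, Functor.map_id_apply] at h2
    subst h2
    rfl
  refine { subsingleton := ?_, eq_of_hom := ?_ }
  · intro X Y
    exact (isFibSetoid_ofPsh P).2 U X Y
  · intro X Y φ
    exact key X Y φ

end Discrete

variable (𝒳 : BasedCategory.{v₂, u₂} C)

/-- objects of the fibre over `U` -/
abbrev FibObj (U : C) : Type u₂ := {x : 𝒳.obj // 𝒳.p.obj x = U}

/-- two objects of the fibre are related iff there is a morphism of the fibre between them -/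
def rel (U : C) (x y : FibObj 𝒳 U) : Prop := ∃ φ : x.1 ⟶ y.1, 𝒳.p.IsHomLift (𝟙 U) φ

variable {𝒳} (hp : FibCat.IsFibGrpd 𝒳.p)

include hp in
theorem rel_equiv (U : C) : Equivalence (rel 𝒳 U) where
  refl x := ⟨𝟙 x.1, lift_id_of_obj 𝒳.p x.2⟩
  symm := by
    rintro x y ⟨φ, hφ⟩
    have := isIso_of_lift_id 𝒳.p hp hφ
    exact ⟨inv φ, lift_inv_of_isIso 𝒳.p φ hφ⟩
  trans := by
    rintro x y z ⟨φ, hφ⟩ ⟨ψ, hψ⟩
    exact ⟨φ ≫ ψ, lift_id_comp_id 𝒳.p hφ hψ⟩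

/-- the setoid of objects of the fibre over `U` -/
def fibSetoid (U : C) : Setoid (FibObj 𝒳 U) := ⟨rel 𝒳 U, rel_equiv hp U⟩

include hp in
theorem exists_pull {U V : C} (f : V ⟶ U) (y : FibObj 𝒳 U) :
    ∃ (x : FibObj 𝒳 V) (φ : x.1 ⟶ y.1), 𝒳.p.IsHomLift f φ := by
  obtain ⟨y, rfl⟩ := y
  obtain ⟨x, φ, hφ⟩ := hp.exists_lift (x := y) f
  exact ⟨⟨x, IsHomLift.domain_eq 𝒳.p f φ⟩, φ, hφ⟩

/-- a chosen pullback -/
noncomputable def pullObj {U V : C} (f : V ⟶ U) (y : FibObj 𝒳 U) : FibObj 𝒳 V :=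
  (exists_pull hp f y).choose

/-- the chosen cartesian arrow -/
noncomputable def pullHom {U V : C} (f : V ⟶ U) (y : FibObj 𝒳 U) : (pullObj hp f y).1 ⟶ y.1 :=
  (exists_pull hp f y).choose_spec.choose

theorem pullHom_lift {U V : C} (f : V ⟶ U) (y : FibObj 𝒳 U) :
    𝒳.p.IsHomLift f (pullHom hp f y) :=
  (exists_pull hp f y).choose_spec.choose_spec

include hp in
theorem rel_of_lifts {U V : C} (f : V ⟶ U) {x x' : FibObj 𝒳 V} {y y' : FibObj 𝒳 U}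
    (φ : x.1 ⟶ y.1) (hφ : 𝒳.p.IsHomLift f φ) (φ' : x'.1 ⟶ y'.1) (hφ' : 𝒳.p.IsHomLift f φ')
    (h : rel 𝒳 U y y') : rel 𝒳 V x x' := by
  obtain ⟨θ, hθ⟩ := h
  have h1 : 𝒳.p.IsHomLift f (φ ≫ θ) := lift_comp_id_right 𝒳.p hφ hθ
  obtain ⟨χ, hχ, -⟩ := cart_lift_id 𝒳.p (cart_of_fibGrpd 𝒳.p hp hφ') (φ ≫ θ) h1
  exact ⟨χ, hχ⟩

/-- the restriction maps of the presheaf of isomorphism classes -/
noncomputable def pMap {U V : C} (f : V ⟶ U) :
    Quotient (fibSetoid hp U) → Quotient (fibSetoid hp V) :=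
  Quotient.lift (fun y => (Quotient.mk (fibSetoid hp V) (pullObj hp f y)))
    (fun y y' h => Quotient.sound
      (rel_of_lifts hp f _ (pullHom_lift hp f y) _ (pullHom_lift hp f y') h))

theorem pMap_mk {U V : C} (f : V ⟶ U) (x : FibObj 𝒳 V) (y : FibObj 𝒳 U) (φ : x.1 ⟶ y.1)
    (hφ : 𝒳.p.IsHomLift f φ) :
    pMap hp f (Quotient.mk (fibSetoid hp U) y) = Quotient.mk (fibSetoid hp V) x :=
  Quotient.sound (rel_of_lifts hp f _ (pullHom_lift hp f y) φ hφ ((rel_equiv hp U).refl y))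

/-- the presheaf of isomorphism classes of objects of the fibres -/
noncomputable def psh : Cᵒᵖ ⥤ Type u₂ where
  obj U := Quotient (fibSetoid hp U.unop)
  map f := TypeCat.ofHom (pMap hp f.unop)
  map_id U := by
    ext q
    induction q using Quotient.inductionOn with
    | h x => exact pMap_mk hp (𝟙 _) x x (𝟙 x.1) (lift_id_of_obj 𝒳.p x.2)
  map_comp {U V W} f g := by
    ext q
    induction q using Quotient.inductionOn with
    | h z =>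
      have h1 := pullHom_lift hp f.unop z
      have h2 := pullHom_lift hp g.unop (pullObj hp f.unop z)
      have h3 : 𝒳.p.IsHomLift (g.unop ≫ f.unop)
          (pullHom hp g.unop (pullObj hp f.unop z) ≫ pullHom hp f.unop z) :=
        lift_comp 𝒳.p h2 h1
      have e1 := pMap_mk hp (g.unop ≫ f.unop) _ z _ h3
      have e2 := pMap_mk hp g.unop _ (pullObj hp f.unop z) _ h2
      have e3 := pMap_mk hp f.unop _ z _ h1
      simp only [TypeCat.Fun.toFun_apply, types_comp_apply, TypeCat.ofHom_apply]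
      rw [e3, e2]
      exact e1

/-- the comparison functor `x ↦ (p x, [x])` -/
noncomputable def toOfPsh : 𝒳 ⥤ᵇ Stk.ofPsh (psh hp) where
  toFunctor :=
    { obj := fun x => ⟨𝒳.p.obj x, Quotient.mk (fibSetoid hp (𝒳.p.obj x)) ⟨x, rfl⟩⟩
      map := fun {x y} φ => ⟨𝒳.p.map φ, pMap_mk hp (𝒳.p.map φ) ⟨x, rfl⟩ ⟨y, rfl⟩ φ (lift_map 𝒳.p φ)⟩
      map_id := fun x => Stk.EltObj.hom_ext (𝒳.p.map_id x)
      map_comp := fun φ ψ => Stk.EltObj.hom_ext (𝒳.p.map_comp φ ψ) }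
  w := rfl

theorem toOfPsh_map_hom {x y : 𝒳.obj} (φ : x ⟶ y) : ((toOfPsh hp).map φ).hom = 𝒳.p.map φ := rfl

theorem faithful_toOfPsh (ht : ∀ U : C, Quiver.IsThin (𝒳.p.Fiber U)) :
    (toOfPsh hp).toFunctor.Faithful := by
  refine ⟨fun {x y} φ ψ h => ?_⟩
  have h0 : 𝒳.p.map φ = 𝒳.p.map ψ := congrArg Stk.EltObj.Hom.hom h
  have h1 : 𝒳.p.IsHomLift (𝒳.p.map ψ) φ := lift_of_eq 𝒳.p (lift_map 𝒳.p φ) h0
  obtain ⟨χ, hχ, hχ'⟩ := cart_lift_id 𝒳.p (cart_of_fibGrpd 𝒳.p hp (lift_map 𝒳.p ψ)) φ h1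
  have h2 : χ = 𝟙 x :=
    Groth.Agent.H32.hom_ext_of_thin_fiber ht χ (𝟙 x) hχ (lift_id_of_obj 𝒳.p rfl)
  rw [← hχ', h2, Category.id_comp]

theorem full_toOfPsh : (toOfPsh hp).toFunctor.Full := by
  refine ⟨fun {x y} m => ?_⟩
  have hm : pMap hp m.hom (Quotient.mk (fibSetoid hp (𝒳.p.obj y)) ⟨y, rfl⟩)
      = Quotient.mk (fibSetoid hp (𝒳.p.obj x)) ⟨x, rfl⟩ := m.map_sec
  have h1 := pMap_mk hp m.hom (pullObj hp m.hom ⟨y, rfl⟩) ⟨y, rfl⟩ _ (pullHom_lift hp m.hom ⟨y, rfl⟩)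
  have h2 : rel 𝒳 (𝒳.p.obj x) ⟨x, rfl⟩ (pullObj hp m.hom ⟨y, rfl⟩) :=
    Quotient.exact (s := fibSetoid hp (𝒳.p.obj x)) (hm.symm.trans h1)
  obtain ⟨θ, hθ⟩ := h2
  have h3 : 𝒳.p.IsHomLift m.hom (θ ≫ pullHom hp m.hom ⟨y, rfl⟩) :=
    lift_comp_id_left 𝒳.p hθ (pullHom_lift hp m.hom ⟨y, rfl⟩)
  refine ⟨θ ≫ pullHom hp m.hom ⟨y, rfl⟩, ?_⟩
  apply Stk.EltObj.hom_ext
  exact (@IsHomLift.eq_of_isHomLift _ _ _ _ 𝒳.p x y m.hom (θ ≫ pullHom hp m.hom ⟨y, rfl⟩) h3).symm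

theorem essSurj_toOfPsh (η : (Stk.ofPsh (psh hp)).obj) :
    ∃ (ξ : 𝒳.obj) (e : (toOfPsh hp).obj ξ ≅ η),
      (Stk.ofPsh (psh hp)).p.IsHomLift (𝟙 ((Stk.ofPsh (psh hp)).p.obj η)) e.hom := by
  obtain ⟨U, q⟩ := η
  induction q using Quotient.inductionOn with
  | h x =>
    obtain ⟨x, hx⟩ := x
    change 𝒳.p.obj x = U at hx
    subst hx
    exact ⟨x, Iso.refl _, IsHomLift.id rfl⟩

theorem isEquivOver_toOfPsh (ht : ∀ U : C, Quiver.IsThin (𝒳.p.Fiber U)) :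
    FibCat.IsEquivOver (toOfPsh hp) := by
  have := faithful_toOfPsh hp ht
  have := full_toOfPsh hp
  exact isEquivOver_of_fullyFaithful_of_fiberwise_essSurj (toOfPsh hp) (essSurj_toOfPsh hp)

end Groth.Agent.H64.SetoidSet
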