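import Groth.Agent.H64.ProdMapRep
import Groth.Agent.H64.Stk.LocEss
import Groth.Agent.H64.Stk.FpStack

set_option autoImplicit false
open CategoryTheory CategoryTheory.Limits
universe v₇ u₇ v₆ u₆ v₅ u₅ v₄ u₄ v₃ u₃ v₂ u₂ v u

namespace Groth.Agent.H64

open Groth.Agent.H32 Groth.Agent.H26

variable {C : Type u} [Category.{v} C]

section magic

variable {𝒜 : BasedCategory.{v₂, u₂} C} {ℬ : BasedCategory.{v₃, u₃} C}
  {𝒮 : BasedCategory.{v₄, u₄} C}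
  (a : 𝒜 ⥤ᵇ 𝒮) (b : ℬ ⥤ᵇ 𝒮)
  (e : BasedFunctor.comp (BasedFunctor.comp (FibCat.fpFst (FibCat.toSelf 𝒜) (FibCat.toSelf ℬ)) a)
      (FibCat.toSelf 𝒮) ≅
    BasedFunctor.comp (BasedFunctor.comp (FibCat.fpSnd (FibCat.toSelf 𝒜) (FibCat.toSelf ℬ)) b)
      (FibCat.toSelf 𝒮))

theorem magic_aux {D : Type*} [Category D] {A A' B B' S S' : D} (ma : A ⟶ A') (mb : B ⟶ B')
    (ms : S ⟶ S') (θ₁ : A ≅ S) (θ₂ : B ≅ S) (θ₁' : A' ≅ S') (θ₂' : B' ≅ S')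
    (h1 : ma ≫ θ₁'.hom = θ₁.hom ≫ ms) (h2 : mb ≫ θ₂'.hom = θ₂.hom ≫ ms) :
    ma ≫ (θ₁' ≪≫ θ₂'.symm).hom = (θ₁ ≪≫ θ₂.symm).hom ≫ mb := by
  simp only [Iso.trans_hom, Iso.symm_hom, Category.assoc]
  rw [← Category.assoc, h1, Category.assoc]
  congr 1
  rw [Iso.comp_inv_eq, Category.assoc, h2, Iso.inv_hom_id_assoc]

/-- the component isomorphism of the magic square functor -/
def magicIso (ζ : (FibCat.fp (prodF a b e) (FibCat.diag (FibCat.toSelf 𝒮))).obj) :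
    a.obj ζ.obj.fst.obj.fst ≅ b.obj ζ.obj.fst.obj.snd :=
  (FibCat.fpFst (FibCat.toSelf 𝒮) (FibCat.toSelf 𝒮)).toFunctor.mapIso ζ.obj.iso ≪≫
    ((FibCat.fpSnd (FibCat.toSelf 𝒮) (FibCat.toSelf 𝒮)).toFunctor.mapIso ζ.obj.iso).symm

/-- the magic square functor `(𝒜 × ℬ) ×_{𝒮 × 𝒮} 𝒮 ⟶ 𝒜 ×_𝒮 ℬ` -/
def magicN : FibCat.fp (prodF a b e) (FibCat.diag (FibCat.toSelf 𝒮)) ⥤ᵇ FibCat.fp a b :=
  FibCat.fpLift
    (BasedFunctor.comp (FibCat.fpFst (prodF a b e) (FibCat.diag (FibCat.toSelf 𝒮)))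
      (FibCat.fpFst (FibCat.toSelf 𝒜) (FibCat.toSelf ℬ)))
    (BasedFunctor.comp (FibCat.fpFst (prodF a b e) (FibCat.diag (FibCat.toSelf 𝒮)))
      (FibCat.fpSnd (FibCat.toSelf 𝒜) (FibCat.toSelf ℬ)))
    (mkBIso (fun ζ => magicIso a b e ζ)
      (fun {ζ ζ'} m => by
        have h1 := congrArg
          (fun t => (FibCat.fpFst (FibCat.toSelf 𝒮) (FibCat.toSelf 𝒮)).toFunctor.map t) m.hom.w
        have h2 := congrArg
          (fun t => (FibCat.fpSnd (FibCat.toSelf 𝒮) (FibCat.toSelf 𝒮)).toFunctor.map t) m.hom.w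
        simp only [Functor.map_comp] at h1 h2
        exact magic_aux _ _ _ _ _ _ _ h1 h2)
      (fun ζ => by
        have h : (FibCat.fp (FibCat.toSelf 𝒮) (FibCat.toSelf 𝒮)).p.IsHomLift
            (𝟙 ((FibCat.fp (prodF a b e) (FibCat.diag (FibCat.toSelf 𝒮))).p.obj ζ))
            ζ.obj.iso.hom :=
          fp_iso_isHomLift (prodF a b e) (FibCat.diag (FibCat.toSelf 𝒮)) ζ
        have h' : (FibCat.fp (FibCat.toSelf 𝒮) (FibCat.toSelf 𝒮)).p.IsHomLift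
            (𝟙 ((FibCat.fp (prodF a b e) (FibCat.diag (FibCat.toSelf 𝒮))).p.obj ζ))
            ζ.obj.iso.inv :=
          fp_iso_inv_isHomLift (prodF a b e) (FibCat.diag (FibCat.toSelf 𝒮)) ζ
        have h1 : 𝒮.p.IsHomLift
            (𝟙 ((FibCat.fp (prodF a b e) (FibCat.diag (FibCat.toSelf 𝒮))).p.obj ζ))
            ((FibCat.fpFst (FibCat.toSelf 𝒮) (FibCat.toSelf 𝒮)).map ζ.obj.iso.hom) :=
          BasedFunctor.preserves_isHomLift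
            (FibCat.fpFst (FibCat.toSelf 𝒮) (FibCat.toSelf 𝒮)) _ _
        have h2 : 𝒮.p.IsHomLift
            (𝟙 ((FibCat.fp (prodF a b e) (FibCat.diag (FibCat.toSelf 𝒮))).p.obj ζ))
            ((FibCat.fpSnd (FibCat.toSelf 𝒮) (FibCat.toSelf 𝒮)).map ζ.obj.iso.inv) :=
          BasedFunctor.preserves_isHomLift
            (FibCat.fpSnd (FibCat.toSelf 𝒮) (FibCat.toSelf 𝒮)) _ _
        exact lift_id_comp_id 𝒮.p h1 h2))

theorem magicN_faithful : (magicN a b e).toFunctor.Faithful := by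
  refine ⟨fun {ζ ζ'} m m' h => ?_⟩
  have h1 : m.hom.fst.hom.fst = m'.hom.fst.hom.fst := congrArg (fun t => t.hom.fst) h
  have h2 : m.hom.fst.hom.snd = m'.hom.fst.hom.snd := congrArg (fun t => t.hom.snd) h
  have w := congrArg
    (fun t => (FibCat.fpFst (FibCat.toSelf 𝒮) (FibCat.toSelf 𝒮)).toFunctor.map t) m.hom.w
  have w' := congrArg
    (fun t => (FibCat.fpFst (FibCat.toSelf 𝒮) (FibCat.toSelf 𝒮)).toFunctor.map t) m'.hom.w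
  simp only [Functor.map_comp] at w w'
  apply fp_hom_ext
  · apply fp_hom_ext
    · exact h1
    · exact h2
  · have e1 : a.map m.hom.fst.hom.fst ≫
        (FibCat.fpFst (FibCat.toSelf 𝒮) (FibCat.toSelf 𝒮)).map ζ'.obj.iso.hom =
        (FibCat.fpFst (FibCat.toSelf 𝒮) (FibCat.toSelf 𝒮)).map ζ.obj.iso.hom ≫ m.hom.snd := w
    have e2 : a.map m'.hom.fst.hom.fst ≫
        (FibCat.fpFst (FibCat.toSelf 𝒮) (FibCat.toSelf 𝒮)).map ζ'.obj.iso.hom =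
        (FibCat.fpFst (FibCat.toSelf 𝒮) (FibCat.toSelf 𝒮)).map ζ.obj.iso.hom ≫ m'.hom.snd := w'
    rw [h1] at e1
    have e3 := e1.symm.trans e2
    have hi : IsIso ((FibCat.fpFst (FibCat.toSelf 𝒮) (FibCat.toSelf 𝒮)).map ζ.obj.iso.hom) :=
      inferInstanceAs (IsIso ((FibCat.fpFst (FibCat.toSelf 𝒮)
        (FibCat.toSelf 𝒮)).toFunctor.map ζ.obj.iso.hom))
    have hepi : Epi ((FibCat.fpFst (FibCat.toSelf 𝒮) (FibCat.toSelf 𝒮)).map ζ.obj.iso.hom) :=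
      @IsIso.epi_of_iso _ _ _ _ _ hi
    exact (@cancel_epi _ _ _ _ _ _ hepi _ _).1 e3

theorem magic_aux2 {D : Type*} [Category D] {A A' B B' S S' : D} (ma : A ⟶ A') (mb : B ⟶ B')
    (θ₁ : A ≅ S) (θ₂ : B ≅ S) (θ₁' : A' ≅ S') (θ₂' : B' ≅ S')
    (hw : ma ≫ (θ₁' ≪≫ θ₂'.symm).hom = (θ₁ ≪≫ θ₂.symm).hom ≫ mb) :
    mb ≫ θ₂'.hom = θ₂.hom ≫ (θ₁.inv ≫ ma ≫ θ₁'.hom) := by
  simp only [Iso.trans_hom, Iso.symm_hom, Category.assoc] at hw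
  have h1 : ma ≫ θ₁'.hom = θ₁.hom ≫ θ₂.inv ≫ mb ≫ θ₂'.hom := by
    have := congrArg (fun t => t ≫ θ₂'.hom) hw
    simpa using this
  rw [h1]
  simp

theorem magicN_full : (magicN a b e).toFunctor.Full := by
  refine ⟨fun {ζ ζ'} φ => ?_⟩
  have hφ₁ : 𝒜.p.IsHomLift ((FibCat.fp a b).p.map φ) φ.hom.fst := lift_map 𝒜.p φ.hom.fst
  have hφ₂ : ℬ.p.IsHomLift ((FibCat.fp a b).p.map φ) φ.hom.snd := FibCat.fp_isHomLift_snd a b φ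
  let β : ζ.obj.fst ⟶ ζ'.obj.fst :=
    fpSelfHomMk (z := ζ'.obj.fst) (z' := ζ.obj.fst) ((FibCat.fp a b).p.map φ)
      φ.hom.fst φ.hom.snd (hα := hφ₁) (hβ := hφ₂)
  let θ₁ : a.obj ζ.obj.fst.obj.fst ≅ ζ.obj.snd :=
    (FibCat.fpFst (FibCat.toSelf 𝒮) (FibCat.toSelf 𝒮)).toFunctor.mapIso ζ.obj.iso
  let θ₂ : b.obj ζ.obj.fst.obj.snd ≅ ζ.obj.snd :=
    (FibCat.fpSnd (FibCat.toSelf 𝒮) (FibCat.toSelf 𝒮)).toFunctor.mapIso ζ.obj.iso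
  let θ₁' : a.obj ζ'.obj.fst.obj.fst ≅ ζ'.obj.snd :=
    (FibCat.fpFst (FibCat.toSelf 𝒮) (FibCat.toSelf 𝒮)).toFunctor.mapIso ζ'.obj.iso
  let θ₂' : b.obj ζ'.obj.fst.obj.snd ≅ ζ'.obj.snd :=
    (FibCat.fpSnd (FibCat.toSelf 𝒮) (FibCat.toSelf 𝒮)).toFunctor.mapIso ζ'.obj.iso
  let ms : ζ.obj.snd ⟶ ζ'.obj.snd := θ₁.inv ≫ a.map φ.hom.fst ≫ θ₁'.hom
  have hw : a.map φ.hom.fst ≫ (θ₁' ≪≫ θ₂'.symm).hom = (θ₁ ≪≫ θ₂.symm).hom ≫ b.map φ.hom.snd :=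
    φ.hom.w
  have w : (prodF a b e).map β ≫ ζ'.obj.iso.hom =
      ζ.obj.iso.hom ≫ (FibCat.diag (FibCat.toSelf 𝒮)).map ms := by
    apply fp_hom_ext
    · show a.map φ.hom.fst ≫ θ₁'.hom = θ₁.hom ≫ θ₁.inv ≫ a.map φ.hom.fst ≫ θ₁'.hom
      exact (Iso.hom_inv_id_assoc θ₁ _).symm
    · show b.map φ.hom.snd ≫ θ₂'.hom = θ₂.hom ≫ ms
      exact magic_aux2 _ _ _ _ _ _ hw
  refine ⟨fpHomMk (prodF a b e) (FibCat.diag (FibCat.toSelf 𝒮)) β ms w, ?_⟩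
  apply fp_hom_ext
  · rfl
  · rfl

theorem magicN_essSurj (η : (FibCat.fp a b).obj) :
    ∃ (ζ : (FibCat.fp (prodF a b e) (FibCat.diag (FibCat.toSelf 𝒮))).obj)
      (ε : (magicN a b e).obj ζ ≅ η),
      (FibCat.fp a b).p.IsHomLift (𝟙 ((FibCat.fp a b).p.obj η)) ε.hom := by
  let x : 𝒜.obj := η.obj.fst
  let y : ℬ.obj := η.obj.snd
  let φ : a.obj x ≅ b.obj y := η.obj.iso
  have hφ : 𝒮.p.IsHomLift (𝟙 (𝒜.p.obj x)) φ.hom := fp_iso_isHomLift a b η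
  have hφi : 𝒮.p.IsHomLift (𝟙 (𝒜.p.obj x)) φ.inv := fp_iso_inv_isHomLift a b η
  have hy : ℬ.p.obj y = 𝒜.p.obj x := fp_snd_obj_eq a b η
  let ξ : (FibCat.fp (FibCat.toSelf 𝒜) (FibCat.toSelf ℬ)).obj :=
    ⟨{ fst := x, snd := y, iso := eqToIso hy.symm },
      lift_eqToHom (FibCat.selfOver C).p hy.symm rfl⟩
  have hw : (FibCat.toSelf 𝒮).map (Iso.refl (a.obj x)).hom ≫
        ((FibCat.diag (FibCat.toSelf 𝒮)).obj (a.obj x)).obj.iso.hom =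
      ((prodF a b e).obj ξ).obj.iso.hom ≫ (FibCat.toSelf 𝒮).map φ.symm.hom := by
    have h1 : (FibCat.selfOver C).p.IsHomLift (𝟙 (𝒜.p.obj x))
        ((FibCat.toSelf 𝒮).map (Iso.refl (a.obj x)).hom) := by
      have : 𝒮.p.IsHomLift (𝟙 (𝒜.p.obj x)) (Iso.refl (a.obj x)).hom :=
        lift_id_of_obj 𝒮.p (a.w_obj x)
      exact BasedFunctor.preserves_isHomLift (FibCat.toSelf 𝒮) _ _
    have h2 : (FibCat.selfOver C).p.IsHomLift (𝟙 (𝒜.p.obj x))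
        ((FibCat.toSelf 𝒮).map φ.symm.hom) := by
      have : 𝒮.p.IsHomLift (𝟙 (𝒜.p.obj x)) φ.symm.hom := hφi
      exact BasedFunctor.preserves_isHomLift (FibCat.toSelf 𝒮) _ _
    have h3 : (FibCat.selfOver C).p.IsHomLift (𝟙 (𝒜.p.obj x))
        ((prodF a b e).obj ξ).obj.iso.hom :=
      lift_id_of_eq (a.w_obj x)
        (fp_iso_isHomLift (FibCat.toSelf 𝒮) (FibCat.toSelf 𝒮) ((prodF a b e).obj ξ))
    have h4 : (FibCat.selfOver C).p.IsHomLift (𝟙 (𝒜.p.obj x))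
        ((FibCat.diag (FibCat.toSelf 𝒮)).obj (a.obj x)).obj.iso.hom :=
      lift_id_of_eq (a.w_obj x)
        (fp_iso_isHomLift (FibCat.toSelf 𝒮) (FibCat.toSelf 𝒮)
          ((FibCat.diag (FibCat.toSelf 𝒮)).obj (a.obj x)))
    have hL := lift_id_comp_id (FibCat.selfOver C).p h1 h4
    have hR := lift_id_comp_id (FibCat.selfOver C).p h3 h2
    exact @self_hom_ext _ _ _ _ (𝟙 (𝒜.p.obj x)) _ _ _ _ hL hR
  let θ : (prodF a b e).obj ξ ≅ (FibCat.diag (FibCat.toSelf 𝒮)).obj (a.obj x) :=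
    fpIsoMk (FibCat.toSelf 𝒮) (FibCat.toSelf 𝒮) (Iso.refl (a.obj x)) φ.symm hw
  have hθ : (FibCat.fp (FibCat.toSelf 𝒮) (FibCat.toSelf 𝒮)).p.IsHomLift (𝟙 (𝒜.p.obj x)) θ.hom := by
    have : 𝒮.p.IsHomLift (𝟙 (𝒜.p.obj x)) θ.hom.hom.fst := lift_id_of_obj 𝒮.p (a.w_obj x)
    exact fp_isHomLift_of_fst (FibCat.toSelf 𝒮) (FibCat.toSelf 𝒮) θ.hom (𝟙 (𝒜.p.obj x))
  let ζ : (FibCat.fp (prodF a b e) (FibCat.diag (FibCat.toSelf 𝒮))).obj :=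
    ⟨{ fst := ξ, snd := a.obj x, iso := θ }, hθ⟩
  let ε : (magicN a b e).obj ζ ≅ η :=
    fpIsoMk a b (z := (magicN a b e).obj ζ) (z' := η) (Iso.refl x) (Iso.refl y) (by
      show a.map (𝟙 x) ≫ φ.hom = (𝟙 (a.obj x) ≫ φ.hom) ≫ b.map (𝟙 y)
      rw [a.map_id, b.map_id, Category.id_comp, Category.comp_id])
  refine ⟨ζ, ε, ?_⟩
  have h1 : 𝒜.p.IsHomLift (𝟙 (𝒜.p.obj x)) ε.hom.hom.fst := IsHomLift.id rfl
  exact @fp_isHomLift_of_fst _ _ _ _ _ a b _ _ ε.hom _ _ (𝟙 (𝒜.p.obj x)) h1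

theorem isEquivOver_magicN : FibCat.IsEquivOver (magicN a b e) := by
  have := magicN_full a b e
  have := magicN_faithful a b e
  exact isEquivOver_of_fullyFaithful_of_fiberwise_essSurj _ (fun η => magicN_essSurj a b e η)

end magic

end Groth.Agent.H64
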