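import Groth.Agent.H32.Inertia
import Groth.Agent.H64.Stk.LocEss
import Groth.Agent.H64.Stk.FpStack
import Groth.Agent.H64.Fib.DiagRep

set_option autoImplicit false
open CategoryTheory CategoryTheory.Limits
universe v₄ u₄ v₃ u₃ v₂ u₂ v u

namespace Groth.Agent.H64

open Groth.Agent.H32

variable {C : Type u} [Category.{v} C] {𝒳 : BasedCategory.{v₂, u₂} C}
  {𝒴 : BasedCategory.{v₃, u₃} C} (F : 𝒳 ⥤ᵇ 𝒴)

/-- the component `(α, 𝟙) : Δ x ≅ Δ x` -/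
def inertiaIsoApp (x : FibCat.InertiaObj F) :
    (FibCat.diag F).obj x.pt ≅ (FibCat.diag F).obj x.pt :=
  fpIsoMk F F (z := (FibCat.diag F).obj x.pt) (z' := (FibCat.diag F).obj x.pt) x.aut (Iso.refl x.pt)
    (by
      show F.map x.aut.hom ≫ 𝟙 _ = 𝟙 _ ≫ F.map (𝟙 x.pt)
      rw [x.map_aut, F.map_id])

/-- the 2-isomorphism defining the comparison functor -/
def inertiaIso : BasedFunctor.comp (FibCat.inertiaToBase F) (FibCat.diag F) ≅
    BasedFunctor.comp (FibCat.inertiaToBase F) (FibCat.diag F) :=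
  mkBIso (fun x => inertiaIsoApp F x)
    (fun {x y} m => by
      apply fp_hom_ext
      · show m.hom ≫ y.aut.hom = x.aut.hom ≫ m.hom
        exact m.comm.symm
      · show m.hom ≫ 𝟙 _ = 𝟙 _ ≫ m.hom
        rw [Category.comp_id, Category.id_comp])
    (fun x => by
      have : 𝒳.p.IsHomLift (𝟙 (𝒳.p.obj x.pt)) (inertiaIsoApp F x).hom.hom.fst :=
        inertia_aut_isHomLift F x
      exact fp_isHomLift_of_fst F F (inertiaIsoApp F x).hom (𝟙 (𝒳.p.obj x.pt)))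

/-- the comparison functor `I_{𝒳/𝒴} ⟶ 𝒳 ×_{Δ, 𝒳 ×_𝒴 𝒳, Δ} 𝒳` -/
def inertiaE : FibCat.inertia F ⥤ᵇ FibCat.fp (FibCat.diag F) (FibCat.diag F) :=
  FibCat.fpLift (FibCat.inertiaToBase F) (FibCat.inertiaToBase F) (inertiaIso F)

theorem inertiaE_faithful : (inertiaE F).toFunctor.Faithful := by
  refine ⟨fun {x y} m m' h => ?_⟩
  have h1 : m.hom = m'.hom := congrArg (fun t => t.hom.fst) h
  exact FibCat.InertiaObj.hom_ext h1

theorem inertiaE_full : (inertiaE F).toFunctor.Full := by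
  refine ⟨fun {x y} φ => ?_⟩
  have hw := φ.hom.w
  have h1 : φ.hom.fst ≫ y.aut.hom = x.aut.hom ≫ φ.hom.snd := congrArg (fun t => t.hom.fst) hw
  have h2 : φ.hom.fst ≫ 𝟙 _ = 𝟙 _ ≫ φ.hom.snd := congrArg (fun t => t.hom.snd) hw
  rw [Category.comp_id, Category.id_comp] at h2
  let m : x.pt ⟶ y.pt := φ.hom.fst
  let m' : x.pt ⟶ y.pt := φ.hom.snd
  have h2' : m = m' := h2
  have h1' : m ≫ y.aut.hom = x.aut.hom ≫ m' := h1
  have hm : x.aut.hom ≫ m = m ≫ y.aut.hom := by rw [h1', h2']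
  refine ⟨⟨m, hm⟩, ?_⟩
  apply fp_hom_ext
  · rfl
  · exact h2

theorem inertiaE_essSurj (η : (FibCat.fp (FibCat.diag F) (FibCat.diag F)).obj) :
    ∃ (ξ : (FibCat.inertia F).obj) (ε : (inertiaE F).obj ξ ≅ η),
      (FibCat.fp (FibCat.diag F) (FibCat.diag F)).p.IsHomLift
        (𝟙 ((FibCat.fp (FibCat.diag F) (FibCat.diag F)).p.obj η)) ε.hom := by
  let x : 𝒳.obj := η.obj.fst
  let x' : 𝒳.obj := η.obj.snd
  let θ₁ : x ≅ x' := (FibCat.fpFst F F).toFunctor.mapIso η.obj.iso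
  let θ₂ : x ≅ x' := (FibCat.fpSnd F F).toFunctor.mapIso η.obj.iso
  have hw : F.map θ₁.hom ≫ 𝟙 _ = 𝟙 _ ≫ F.map θ₂.hom := η.obj.iso.hom.hom.w
  rw [Category.comp_id, Category.id_comp] at hw
  have hα : F.map (θ₁ ≪≫ θ₂.symm).hom = 𝟙 (F.obj x) := by
    show F.map (θ₁.hom ≫ θ₂.inv) = 𝟙 _
    rw [F.map_comp, hw, ← F.map_comp, Iso.hom_inv_id, F.map_id]
  let ξ : (FibCat.inertia F).obj := ⟨x, θ₁ ≪≫ θ₂.symm, hα⟩
  let ε : (inertiaE F).obj ξ ≅ η :=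
    fpIsoMk (FibCat.diag F) (FibCat.diag F) (z := (inertiaE F).obj ξ) (z' := η)
      (Iso.refl x) θ₂ (by
        apply fp_hom_ext
        · show 𝟙 x ≫ θ₁.hom = (θ₁.hom ≫ θ₂.inv) ≫ θ₂.hom
          rw [Category.id_comp, Category.assoc, Iso.inv_hom_id, Category.comp_id]
        · show 𝟙 x ≫ θ₂.hom = 𝟙 x ≫ θ₂.hom
          rfl)
  refine ⟨ξ, ε, ?_⟩
  have h1 : 𝒳.p.IsHomLift (𝟙 (𝒳.p.obj x)) ε.hom.hom.fst := IsHomLift.id rfl
  exact @fp_isHomLift_of_fst _ _ _ _ _ (FibCat.diag F) (FibCat.diag F) _ _ ε.hom _ _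
    (𝟙 (𝒳.p.obj x)) h1

theorem isEquivOver_inertiaE : FibCat.IsEquivOver (inertiaE F) := by
  have := inertiaE_full F
  have := inertiaE_faithful F
  exact isEquivOver_of_fullyFaithful_of_fiberwise_essSurj _ (fun η => inertiaE_essSurj F η)

theorem inertiaE_comp_fpFst :
    BasedFunctor.comp (inertiaE F) (FibCat.fpFst _ _) = FibCat.inertiaToBase F :=
  basedFunctor_ext rfl

theorem inertiaE_comp_fpSnd :
    BasedFunctor.comp (inertiaE F) (FibCat.fpSnd _ _) = FibCat.inertiaToBase F :=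
  basedFunctor_ext rfl

end Groth.Agent.H64
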