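import Groth.Prelude.Def_W4stkcategoriessitesFib

set_option autoImplicit false
open CategoryTheory CategoryTheory.Limits
universe v u

namespace Groth.Agent.H64.DiagBCPlain

section general

universe v₁ v₂ v₃ v₄ v₅ v₆ u₁ u₂ u₃ u₄ u₅ u₆

variable {X : Type u₁} {Y : Type u₂} {Z : Type u₃} {A : Type u₄} {B : Type u₅} {C : Type u₆}
  [Category.{v₁} X] [Category.{v₂} Y] [Category.{v₃} Z]
  [Category.{v₄} A] [Category.{v₅} B] [Category.{v₆} C] {H : X ⥤ Z} {I : Y ⥤ Z} {F : A ⥤ C} {G : B ⥤ C}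
  (ψ : CatCospanTransform H I F G)

theorem cpm_obj_iso_hom (x : CategoricalPullback H I) :
    ((FibCat.categoricalPullbackMap ψ).obj x).iso.hom =
      ψ.squareLeft.iso.inv.app x.fst ≫ ψ.base.map x.iso.hom ≫
        ψ.squareRight.iso.hom.app x.snd := by
  simp [FibCat.categoricalPullbackMap]
  rfl

end general

variable {X Y V : Type u} [Category.{v} X] [Category.{v} Y] [Category.{v} V] (p : X ⥤ Y) (q : V ⥤ Y)

/-- the diagonal of `U = X ×_Y V` over `V` -/
abbrev dU : CategoricalPullback p q ⥤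
    CategoricalPullback (CategoricalPullback.π₂ p q) (CategoricalPullback.π₂ p q) :=
  (CategoricalPullback.CatCommSqOver.toFunctorToCategoricalPullback (CategoricalPullback.π₂ p q)
    (CategoricalPullback.π₂ p q) (CategoricalPullback p q)).obj ⟨𝟭 _, 𝟭 _, Iso.refl _⟩

/-- the diagonal of `X` over `Y` -/
abbrev dX : X ⥤ CategoricalPullback p p :=
  (CategoricalPullback.CatCommSqOver.toFunctorToCategoricalPullback p p X).obj ⟨𝟭 _, 𝟭 _, Iso.refl _⟩

/-- the morphism of cospans -/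
abbrev ψ : CatCospanTransform (CategoricalPullback.π₂ p q) (CategoricalPullback.π₂ p q) p p :=
  ⟨CategoricalPullback.π₁ p q, q, CategoricalPullback.π₁ p q,
    ⟨(CatCommSq.iso (CategoricalPullback.π₁ p q) (CategoricalPullback.π₂ p q) p q).symm⟩,
    ⟨(CatCommSq.iso (CategoricalPullback.π₁ p q) (CategoricalPullback.π₂ p q) p q).symm⟩⟩

/-- the induced functor `U ×_V U ⥤ X ×_Y X` -/
noncomputable abbrev Gm : CategoricalPullback (CategoricalPullback.π₂ p q) (CategoricalPullback.π₂ p q) ⥤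
    CategoricalPullback p p :=
  FibCat.categoricalPullbackMap (ψ p q)

theorem Gm_obj_iso_hom (w : CategoricalPullback (CategoricalPullback.π₂ p q) (CategoricalPullback.π₂ p q)) :
    ((Gm p q).obj w).iso.hom = w.fst.iso.hom ≫ q.map w.iso.hom ≫ w.snd.iso.inv := by
  exact (cpm_obj_iso_hom (ψ p q) w).trans rfl

theorem Gm_obj_fst (w : CategoricalPullback (CategoricalPullback.π₂ p q) (CategoricalPullback.π₂ p q)) :
    ((Gm p q).obj w).fst = w.fst.fst := rfl

theorem Gm_obj_snd (w : CategoricalPullback (CategoricalPullback.π₂ p q) (CategoricalPullback.π₂ p q)) :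
    ((Gm p q).obj w).snd = w.snd.fst := rfl

theorem Gm_map_fst {w w' : CategoricalPullback (CategoricalPullback.π₂ p q) (CategoricalPullback.π₂ p q)}
    (g : w ⟶ w') : ((Gm p q).map g).fst = g.fst.fst := rfl

theorem Gm_map_snd {w w' : CategoricalPullback (CategoricalPullback.π₂ p q) (CategoricalPullback.π₂ p q)}
    (g : w ⟶ w') : ((Gm p q).map g).snd = g.snd.fst := rfl

theorem Gm_dU_iso_hom (u : CategoricalPullback p q) :
    ((Gm p q).obj ((dU p q).obj u)).iso.hom = 𝟙 (p.obj u.fst) := by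
  refine (Gm_obj_iso_hom p q ((dU p q).obj u)).trans ?_
  show u.iso.hom ≫ q.map (𝟙 u.snd) ≫ u.iso.inv = 𝟙 (p.obj u.fst)
  simp

/-- components of the filling 2-isomorphism -/
noncomputable def eApp (u : CategoricalPullback p q) :
    (CategoricalPullback.π₁ p q ⋙ dX p).obj u ≅ (dU p q ⋙ Gm p q).obj u :=
  CategoricalPullback.mkIso (Iso.refl u.fst) (Iso.refl u.fst) (by
    show p.map (𝟙 u.fst) ≫ ((Gm p q).obj ((dU p q).obj u)).iso.hom = 𝟙 (p.obj u.fst) ≫ p.map (𝟙 u.fst)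
    rw [Gm_dU_iso_hom]
    simp only [Functor.map_id, Category.comp_id]
    exact Category.comp_id _)

theorem eApp_hom_fst (u : CategoricalPullback p q) : (eApp p q u).hom.fst = 𝟙 u.fst := rfl
theorem eApp_hom_snd (u : CategoricalPullback p q) : (eApp p q u).hom.snd = 𝟙 u.fst := rfl

/-- the filling 2-isomorphism -/
noncomputable def e : CategoricalPullback.π₁ p q ⋙ dX p ≅ dU p q ⋙ Gm p q :=
  NatIso.ofComponents (eApp p q) (by
    intro u u' f
    apply CategoricalPullback.hom_ext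
    · show f.fst ≫ 𝟙 u'.fst = 𝟙 u.fst ≫ f.fst
      simp
    · show f.fst ≫ 𝟙 u'.fst = 𝟙 u.fst ≫ f.fst
      simp)

theorem e_hom_app_fst (u : CategoricalPullback p q) : ((e p q).hom.app u).fst = 𝟙 u.fst := rfl
theorem e_hom_app_snd (u : CategoricalPullback p q) : ((e p q).hom.app u).snd = 𝟙 u.fst := rfl

/-- the comparison functor -/
noncomputable abbrev Φ : CategoricalPullback p q ⥤ CategoricalPullback (dX p) (Gm p q) :=
  (CategoricalPullback.CatCommSqOver.toFunctorToCategoricalPullback (dX p) (Gm p q)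
    (CategoricalPullback p q)).obj ⟨CategoricalPullback.π₁ p q, dU p q, e p q⟩

theorem Φ_map_snd_fst {u u' : CategoricalPullback p q} (f : u ⟶ u') :
    ((Φ p q).map f).snd.fst = f := rfl

theorem faithful_Φ : (Φ p q).Faithful := by
  refine ⟨fun {u u'} f g h => ?_⟩
  have := congrArg (fun k => k.snd.fst) h
  exact this

theorem full_Φ : (Φ p q).Full := by
  refine ⟨fun {u u'} k => ?_⟩
  have hw := k.w
  have h1' : k.fst ≫ 𝟙 u'.fst = 𝟙 u.fst ≫ k.snd.fst.fst := congrArg (fun m => m.fst) hw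
  have h2' : k.fst ≫ 𝟙 u'.fst = 𝟙 u.fst ≫ k.snd.snd.fst := congrArg (fun m => m.snd) hw
  have h3' : k.snd.fst.snd ≫ 𝟙 u'.snd = 𝟙 u.snd ≫ k.snd.snd.snd := k.snd.w
  have h1 : k.fst = k.snd.fst.fst := (Category.comp_id _).symm.trans (h1'.trans (Category.id_comp _))
  have h2 : k.fst = k.snd.snd.fst := (Category.comp_id _).symm.trans (h2'.trans (Category.id_comp _))
  have h3 : k.snd.fst.snd = k.snd.snd.snd :=
    (Category.comp_id _).symm.trans (h3'.trans (Category.id_comp _))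
  have h4 : k.snd.fst = k.snd.snd :=
    CategoricalPullback.hom_ext (h1.symm.trans h2) h3
  refine ⟨k.snd.fst, ?_⟩
  apply CategoricalPullback.hom_ext
  · exact h1.symm
  · apply CategoricalPullback.hom_ext
    · rfl
    · exact h4

theorem ess_aux {D : Type*} [Category D] {A B B' Q Q' : D} (a : A ⟶ B) (a' : B ⟶ A)
    (haa : a' ≫ a = 𝟙 B) (s : B ⟶ Q) (t : Q ⟶ Q') (r : B' ≅ Q') (b : A ⟶ B')
    (h : a ≫ (s ≫ t ≫ r.inv) = 𝟙 A ≫ b) : (a' ≫ b) ≫ r.hom = s ≫ t := by
  rw [Category.id_comp] at h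
  rw [← h]
  simp only [Category.assoc, Iso.inv_hom_id, Category.comp_id]
  rw [← Category.assoc, haa, Category.id_comp]

theorem essSurj_Φ : (Φ p q).EssSurj := by
  refine ⟨fun z => ?_⟩
  let w := z.snd
  let i : (dX p).obj z.fst ≅ (Gm p q).obj z.snd := z.iso
  let a : z.fst ≅ w.fst.fst := (CategoricalPullback.π₁ p p).mapIso i
  let b : z.fst ≅ w.snd.fst := (CategoricalPullback.π₂ p p).mapIso i
  have hw : p.map a.hom ≫ ((Gm p q).obj w).iso.hom = 𝟙 (p.obj z.fst) ≫ p.map b.hom := i.hom.w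
  rw [Gm_obj_iso_hom] at hw
  let θ₁ : w.fst.fst ≅ w.snd.fst := a.symm ≪≫ b
  have haa : p.map a.inv ≫ p.map a.hom = 𝟙 _ := by
    rw [← p.map_comp, Iso.inv_hom_id, p.map_id]
  have hθ : p.map θ₁.hom ≫ w.snd.iso.hom = w.fst.iso.hom ≫ q.map w.iso.hom := by
    have := ess_aux (p.map a.hom) (p.map a.inv) haa w.fst.iso.hom (q.map w.iso.hom) w.snd.iso
      (p.map b.hom) hw
    rw [← p.map_comp] at this
    exact this
  let θ : w.fst ≅ w.snd := CategoricalPullback.mkIso θ₁ w.iso hθ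
  let eR : (dU p q).obj w.fst ≅ w := CategoricalPullback.mkIso (Iso.refl w.fst) θ (by
    show 𝟙 w.fst.snd ≫ w.iso.hom = 𝟙 w.fst.snd ≫ w.iso.hom
    rfl)
  refine ⟨w.fst, ⟨CategoricalPullback.mkIso a.symm eR ?_⟩⟩
  apply CategoricalPullback.hom_ext
  · show a.inv ≫ a.hom = 𝟙 w.fst.fst ≫ 𝟙 w.fst.fst
    simp
  · show a.inv ≫ b.hom = 𝟙 w.fst.fst ≫ (a.inv ≫ b.hom)
    simp

theorem isEquivalence_Φ : (Φ p q).IsEquivalence := by
  have := faithful_Φ p q
  have := full_Φ p q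
  have := essSurj_Φ p q
  exact {}

theorem main : ∃ e, (∀ u, (e.hom.app u).fst = 𝟙 _ ∧ (e.hom.app u).snd = 𝟙 _) ∧ FibCat.IsTwoCart
      (CategoricalPullback.π₁ p q)
      ((CategoricalPullback.CatCommSqOver.toFunctorToCategoricalPullback (CategoricalPullback.π₂ p q) (CategoricalPullback.π₂ p q) (CategoricalPullback p q)).obj ⟨𝟭 _, 𝟭 _, Iso.refl _⟩)
      ((CategoricalPullback.CatCommSqOver.toFunctorToCategoricalPullback p p X).obj ⟨𝟭 _, 𝟭 _, Iso.refl _⟩)
      (FibCat.categoricalPullbackMap (⟨CategoricalPullback.π₁ p q, q, CategoricalPullback.π₁ p q, ⟨(CatCommSq.iso (CategoricalPullback.π₁ p q) (CategoricalPullback.π₂ p q) p q).symm⟩, ⟨(CatCommSq.iso (CategoricalPullback.π₁ p q) (CategoricalPullback.π₂ p q) p q).symm⟩⟩ : CatCospanTransform (CategoricalPullback.π₂ p q) (CategoricalPullback.π₂ p q) p p))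
      e :=
  ⟨e p q, fun _ => ⟨rfl, rfl⟩, isEquivalence_Φ p q⟩

end Groth.Agent.H64.DiagBCPlain
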