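import Groth.Agent.H64.Fib.DiagLift

set_option autoImplicit false
open CategoryTheory CategoryTheory.Limits
universe v₅ u₅ v₄ u₄ v₃ u₃ v₂ u₂ v u

/-! Lifting an object of `𝒳 ×_𝒴 𝒳` over `𝒜` to `𝒫 ×_𝒲 𝒫`, `𝒫 = 𝒲 ×_𝒴 𝒳`, given a lift of its image
in `𝒴` to `𝒲`. -/

namespace Groth.Agent.H64

open Groth.Agent.H32

variable {C : Type u} [Category.{v} C]
variable {𝒳 : BasedCategory.{v₂, u₂} C} {𝒴 : BasedCategory.{v₃, u₃} C} {𝒜 : BasedCategory.{v₄, u₄} C}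
  {𝒲 : BasedCategory.{v₅, u₅} C}
variable (f : 𝒳 ⥤ᵇ 𝒴) (w : 𝒲 ⥤ᵇ 𝒴) (y : 𝒜 ⥤ᵇ FibCat.fp f f) (q : 𝒜 ⥤ᵇ 𝒲)
  (α : BasedFunctor.comp q w ≅ BasedFunctor.comp (BasedFunctor.comp y (FibCat.fpFst f f)) f)

/-- the first section -/
def dlgS₁ : 𝒜 ⥤ᵇ FibCat.fp w f :=
  FibCat.fpLift (F := w) (G := f) q (BasedFunctor.comp y (FibCat.fpFst f f)) α

/-- the second section -/
def dlgS₂ : 𝒜 ⥤ᵇ FibCat.fp w f :=
  FibCat.fpLift (F := w) (G := f) q (BasedFunctor.comp y (FibCat.fpSnd f f))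
    (α ≪≫ bwlIso y (FibCat.fpIso f f))

/-- the lift of `y` -/
def dlgLift : 𝒜 ⥤ᵇ FibCat.fp (FibCat.fpFst w f) (FibCat.fpFst w f) :=
  FibCat.fpLift (F := FibCat.fpFst w f) (G := FibCat.fpFst w f)
    (dlgS₁ f w y q α) (dlgS₂ f w y q α) (Iso.refl _)

theorem dlg_aux {D : Type*} [Category D] {A B E : D} (φ : A ⟶ B) (αi : A ⟶ E) (αh : E ⟶ A)
    (hα : αi ≫ αh = 𝟙 A) (j : E ⟶ E) (hj : j = 𝟙 E) (g1 : A ⟶ A) (hg1 : g1 = 𝟙 A) (g2 : B ⟶ B)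
    (hg2 : g2 = 𝟙 B) : g1 ≫ φ = (αi ≫ j ≫ αh ≫ φ) ≫ g2 := by
  subst hj hg1 hg2
  simp [reassoc_of% hα]

/-- the lift of `y` maps to `y` -/
def dlgIso : BasedFunctor.comp (dlgLift f w y q α) (diagBCq f w) ≅ y :=
  mkBIso
    (fun t => fpIsoMk f f (z := (diagBCq f w).obj ((dlgLift f w y q α).obj t)) (z' := y.obj t)
      (Iso.refl _) (Iso.refl _) (by
        rw [diagBCq_obj_iso_hom]
        refine dlg_aux _ _ _ (bapp_iso_inv_hom α t) _ ?_ _ (f.map_id _) _ (f.map_id _)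
        exact w.map_id _))
    (fun {t t'} m => by
      apply fp_hom_ext
      · show (y.map m).hom.fst ≫ 𝟙 _ = 𝟙 _ ≫ (y.map m).hom.fst
        simp
      · show (y.map m).hom.snd ≫ 𝟙 _ = 𝟙 _ ≫ (y.map m).hom.snd
        simp)
    (fun t => by
      have : 𝒳.p.IsHomLift (𝟙 (𝒜.p.obj t)) (𝟙 (y.obj t).obj.fst) :=
        IsHomLift.id ((BasedFunctor.comp y (FibCat.fpFst f f)).w_obj t)
      exact @fp_isHomLift_of_fst _ _ _ _ _ f f _ _ _ _ _ (𝟙 (𝒜.p.obj t)) this)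

end Groth.Agent.H64
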