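import Mathlib.CategoryTheory.Bicategory.Basic
import Mathlib.CategoryTheory.Equivalence

set_option autoImplicit false
open CategoryTheory Bicategory
universe w v u

namespace Groth.Agent.H64

variable {B : Type u} [Bicategory.{w, v} B] {a b : B}

/-- precomposition with an equivalence 1-morphism is an equivalence of hom-categories -/
theorem precomp_isEquivalence (c : B) (f : a ⟶ b) (g : b ⟶ a) (η : f ≫ g ≅ 𝟙 a)
    (ε : g ≫ f ≅ 𝟙 b) : (precomp c f).IsEquivalence := by
  let e : (b ⟶ c) ≌ (a ⟶ c) := CategoryTheory.Equivalence.mk (precomp c f) (precomp c g)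
    ((leftUnitorNatIso b c).symm ≪≫ ((precomposing b b c).mapIso ε).symm ≪≫
      associatorNatIsoRight g f c)
    ((associatorNatIsoRight f g c).symm ≪≫ (precomposing a a c).mapIso η ≪≫
      leftUnitorNatIso a c)
  exact e.isEquivalence_functor

/-- postcomposition with an equivalence 1-morphism is an equivalence of hom-categories -/
theorem postcomp_isEquivalence (c : B) (f : a ⟶ b) (g : b ⟶ a) (η : f ≫ g ≅ 𝟙 a)
    (ε : g ≫ f ≅ 𝟙 b) : (postcomp c f).IsEquivalence := by
  let e : (c ⟶ a) ≌ (c ⟶ b) := CategoryTheory.Equivalence.mk (postcomp c f) (postcomp c g)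
    ((rightUnitorNatIso c a).symm ≪≫ ((postcomposing c a a).mapIso η).symm ≪≫
      (associatorNatIsoLeft c f g).symm)
    (associatorNatIsoLeft c g f ≪≫ (postcomposing c b b).mapIso ε ≪≫
      rightUnitorNatIso c b)
  exact e.isEquivalence_functor

end Groth.Agent.H64
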