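import Groth.Agent.H64.Stk.LocEss
import Groth.Agent.H64.Stk.EquivTools

set_option autoImplicit false
open CategoryTheory Opposite
universe v₂ u₂ v u

/-! Every fibred category is equivalent over the base to a split one: the strict presheaf of
categories of "formal pullbacks". -/

namespace Groth.Agent.H64.Split

variable {C : Type u} [Category.{v} C] (𝒳 : BasedCategory.{v₂, u₂} C)

/-- a formal pullback: an object `x` and a morphism `g : U ⟶ p x` -/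
structure FObj (U : C) where
  /-- the object -/
  x : 𝒳.obj
  /-- the morphism along which it is pulled back -/
  g : U ⟶ 𝒳.p.obj x

variable {𝒳} [𝒳.p.IsFibered]

/-- the chosen pullback -/
noncomputable def pb {U : C} (a : FObj 𝒳 U) : 𝒳.obj :=
  Functor.IsPreFibered.pullbackObj (p := 𝒳.p) (a := a.x) rfl a.g

/-- the chosen cartesian arrow -/
noncomputable def pr {U : C} (a : FObj 𝒳 U) : pb a ⟶ a.x :=
  Functor.IsPreFibered.pullbackMap (p := 𝒳.p) (a := a.x) rfl a.g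

theorem pr_cart {U : C} (a : FObj 𝒳 U) : 𝒳.p.IsStronglyCartesian a.g (pr a) := by
  have : 𝒳.p.IsCartesian a.g (pr a) :=
    Functor.IsPreFibered.pullbackMap.IsCartesian (p := 𝒳.p) (a := a.x) rfl a.g
  infer_instance

theorem pr_lift {U : C} (a : FObj 𝒳 U) : 𝒳.p.IsHomLift a.g (pr a) := by
  have := pr_cart a
  infer_instance

theorem pb_obj {U : C} (a : FObj 𝒳 U) : 𝒳.p.obj (pb a) = U := lift_domain_eq 𝒳.p (pr_lift a)

theorem exists_liftPb {U W : C} (a : FObj 𝒳 U) (h : W ⟶ U) {z : 𝒳.obj} (χ : z ⟶ a.x)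
    (hχ : 𝒳.p.IsHomLift (h ≫ a.g) χ) :
    ∃ ψ : z ⟶ pb a, 𝒳.p.IsHomLift h ψ ∧ ψ ≫ pr a = χ :=
  cart_lift 𝒳.p (pr_cart a) h (h ≫ a.g) rfl χ hχ

/-- lift to the chosen pullback -/
noncomputable def liftPb {U W : C} (a : FObj 𝒳 U) (h : W ⟶ U) {z : 𝒳.obj} (χ : z ⟶ a.x)
    (hχ : 𝒳.p.IsHomLift (h ≫ a.g) χ) : z ⟶ pb a := (exists_liftPb a h χ hχ).choose

theorem liftPb_lift {U W : C} (a : FObj 𝒳 U) (h : W ⟶ U) {z : 𝒳.obj} (χ : z ⟶ a.x)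
    (hχ : 𝒳.p.IsHomLift (h ≫ a.g) χ) : 𝒳.p.IsHomLift h (liftPb a h χ hχ) :=
  (exists_liftPb a h χ hχ).choose_spec.1

theorem liftPb_fac {U W : C} (a : FObj 𝒳 U) (h : W ⟶ U) {z : 𝒳.obj} (χ : z ⟶ a.x)
    (hχ : 𝒳.p.IsHomLift (h ≫ a.g) χ) : liftPb a h χ hχ ≫ pr a = χ :=
  (exists_liftPb a h χ hχ).choose_spec.2

theorem pb_hom_ext {U W : C} (a : FObj 𝒳 U) (h : W ⟶ U) {z : 𝒳.obj} {ψ ψ' : z ⟶ pb a}
    (hψ : 𝒳.p.IsHomLift h ψ) (hψ' : 𝒳.p.IsHomLift h ψ') (e : ψ ≫ pr a = ψ' ≫ pr a) : ψ = ψ' :=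
  cart_ext 𝒳.p (pr_cart a) h hψ hψ' e

/-- the formal pullback of a formal pullback -/
abbrev pull {U V : C} (f : V ⟶ U) (a : FObj 𝒳 U) : FObj 𝒳 V := ⟨a.x, f ≫ a.g⟩

/-- the comparison morphism between chosen pullbacks -/
noncomputable def cmap {U V : C} (f : V ⟶ U) (a : FObj 𝒳 U) : pb (pull f a) ⟶ pb a :=
  liftPb a f (pr (pull f a)) (pr_lift (pull f a))

theorem cmap_lift {U V : C} (f : V ⟶ U) (a : FObj 𝒳 U) : 𝒳.p.IsHomLift f (cmap f a) :=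
  liftPb_lift _ _ _ _

theorem cmap_fac {U V : C} (f : V ⟶ U) (a : FObj 𝒳 U) : cmap f a ≫ pr a = pr (pull f a) :=
  liftPb_fac _ _ _ _

theorem pr_eqToHom {U : C} {x : 𝒳.obj} {h h' : U ⟶ 𝒳.p.obj x} (e : h = h') :
    eqToHom (by rw [e]) ≫ pr (⟨x, h'⟩ : FObj 𝒳 U) = pr (⟨x, h⟩ : FObj 𝒳 U) := by
  subst e
  simp

theorem eqToHom_pb_lift {U : C} {a a' : FObj 𝒳 U} (e : a = a') :
    𝒳.p.IsHomLift (𝟙 U) (eqToHom (congrArg pb e)) := by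
  subst e
  exact lift_id_of_obj 𝒳.p (pb_obj a)

noncomputable instance instCategoryFObj (U : C) : Category.{v₂} (FObj 𝒳 U) where
  Hom a b := {φ : pb a ⟶ pb b // 𝒳.p.IsHomLift (𝟙 U) φ}
  id a := ⟨𝟙 _, lift_id_of_obj 𝒳.p (pb_obj a)⟩
  comp φ ψ := ⟨φ.1 ≫ ψ.1, lift_id_comp_id 𝒳.p φ.2 ψ.2⟩
  id_comp _ := Subtype.ext (Category.id_comp _)
  comp_id _ := Subtype.ext (Category.comp_id _)
  assoc _ _ _ := Subtype.ext (Category.assoc _ _ _)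

theorem fobj_hom_ext {U : C} {a b : FObj 𝒳 U} {φ ψ : a ⟶ b} (h : φ.1 = ψ.1) : φ = ψ :=
  Subtype.ext h

@[simp] theorem fobj_id_val {U : C} (a : FObj 𝒳 U) : (𝟙 a : a ⟶ a).1 = 𝟙 (pb a) := rfl

@[simp] theorem fobj_comp_val {U : C} {a b c : FObj 𝒳 U} (φ : a ⟶ b) (ψ : b ⟶ c) :
    (φ ≫ ψ).1 = φ.1 ≫ ψ.1 := rfl

theorem fobj_eqToHom_val {U : C} {a a' : FObj 𝒳 U} (e : a = a') :
    (eqToHom e : a ⟶ a').1 = eqToHom (congrArg pb e) := by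
  subst e
  rfl

theorem fmap_aux_lift {U V : C} (f : V ⟶ U) {a b : FObj 𝒳 U} (φ : a ⟶ b) :
    𝒳.p.IsHomLift (𝟙 V ≫ (pull f b).g) (cmap f a ≫ φ.1 ≫ pr b) := by
  have h1 : 𝒳.p.IsHomLift (f ≫ 𝟙 U ≫ b.g) (cmap f a ≫ φ.1 ≫ pr b) :=
    lift_comp 𝒳.p (cmap_lift f a) (lift_comp 𝒳.p φ.2 (pr_lift b))
  exact lift_of_eq 𝒳.p h1 (by simp [pull])

/-- the action of `f^*` on morphisms -/
noncomputable def fmapHom {U V : C} (f : V ⟶ U) {a b : FObj 𝒳 U} (φ : a ⟶ b) :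
    pull f a ⟶ pull f b :=
  ⟨liftPb (pull f b) (𝟙 V) (cmap f a ≫ φ.1 ≫ pr b) (fmap_aux_lift f φ), liftPb_lift _ _ _ _⟩

theorem fmapHom_fac {U V : C} (f : V ⟶ U) {a b : FObj 𝒳 U} (φ : a ⟶ b) :
    (fmapHom f φ).1 ≫ pr (pull f b) = cmap f a ≫ φ.1 ≫ pr b :=
  liftPb_fac (pull f b) (𝟙 V) (cmap f a ≫ φ.1 ≫ pr b) (fmap_aux_lift f φ)

/-- characterisation of `fmapHom` -/
theorem fmapHom_eq {U V : C} (f : V ⟶ U) {a b : FObj 𝒳 U} (φ : a ⟶ b) (ψ : pull f a ⟶ pull f b)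
    (h : ψ.1 ≫ pr (pull f b) = cmap f a ≫ φ.1 ≫ pr b) : ψ = fmapHom f φ := by
  apply fobj_hom_ext
  exact pb_hom_ext (pull f b) (𝟙 V) ψ.2 (fmapHom f φ).2 (h.trans (fmapHom_fac f φ).symm)

theorem fmapHom_nat {U V : C} (f : V ⟶ U) {a b : FObj 𝒳 U} (φ : a ⟶ b) :
    (fmapHom f φ).1 ≫ cmap f b = cmap f a ≫ φ.1 := by
  have h1 : 𝒳.p.IsHomLift f ((fmapHom f φ).1 ≫ cmap f b) :=
    lift_comp_id_left 𝒳.p (fmapHom f φ).2 (cmap_lift f b)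
  have h2 : 𝒳.p.IsHomLift f (cmap f a ≫ φ.1) := lift_comp_id_right 𝒳.p (cmap_lift f a) φ.2
  apply pb_hom_ext b f h1 h2
  rw [Category.assoc, cmap_fac, fmapHom_fac, Category.assoc]

/-- the functor `f^*` -/
noncomputable def Fmap {U V : C} (f : V ⟶ U) : FObj 𝒳 U ⥤ FObj 𝒳 V where
  obj := pull f
  map φ := fmapHom f φ
  map_id a := by
    symm
    apply fmapHom_eq
    simp [cmap_fac]
  map_comp {a b c} φ ψ := by
    symm
    apply fmapHom_eq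
    rw [fobj_comp_val, Category.assoc, fmapHom_fac, ← Category.assoc, fmapHom_nat, fobj_comp_val]
    simp

theorem cmap_id {U : C} (a : FObj 𝒳 U) :
    cmap (𝟙 U) a = eqToHom (congrArg pb (show pull (𝟙 U) a = a by simp [pull])) := by
  have e : pull (𝟙 U) a = a := by simp [pull]
  have h2 := eqToHom_pb_lift e
  apply pb_hom_ext a (𝟙 U) (cmap_lift (𝟙 U) a) h2
  rw [cmap_fac]
  obtain ⟨x, g⟩ := a
  exact (pr_eqToHom (x := x) (h := 𝟙 U ≫ g) (h' := g) (by simp)).symm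

theorem cmap_comp {U V W : C} (f' : W ⟶ V) (f : V ⟶ U) (a : FObj 𝒳 U) :
    cmap (f' ≫ f) a =
      eqToHom (congrArg pb (show pull (f' ≫ f) a = pull f' (pull f a) by simp [pull])) ≫
        cmap f' (pull f a) ≫ cmap f a := by
  have e : pull (f' ≫ f) a = pull f' (pull f a) := by simp [pull]
  have h2 : 𝒳.p.IsHomLift (f' ≫ f) (eqToHom (congrArg pb e) ≫ cmap f' (pull f a) ≫ cmap f a) :=
    lift_comp_id_left 𝒳.p (eqToHom_pb_lift e) (lift_comp 𝒳.p (cmap_lift f' _) (cmap_lift f a))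
  apply pb_hom_ext a (f' ≫ f) (cmap_lift (f' ≫ f) a) h2
  rw [cmap_fac, Category.assoc, Category.assoc, cmap_fac, cmap_fac]
  obtain ⟨x, g⟩ := a
  exact (pr_eqToHom (x := x) (h := (f' ≫ f) ≫ g) (h' := f' ≫ f ≫ g) (by simp)).symm

theorem pull_id {U : C} (a : FObj 𝒳 U) : pull (𝟙 U) a = a := by simp [pull]

theorem pull_comp {U V W : C} (f' : W ⟶ V) (f : V ⟶ U) (a : FObj 𝒳 U) :
    pull (f' ≫ f) a = pull f' (pull f a) := by simp [pull]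

theorem pr_eqToHom' {U : C} {a a' : FObj 𝒳 U} (e : a = a') (ex : a.x = a'.x) :
    eqToHom (congrArg pb e) ≫ pr a' = pr a ≫ eqToHom ex := by
  subst e
  simp

theorem conj_val_pr {V : C} {a a' b b' : FObj 𝒳 V} (ea : a = a') (eb : b = b') (ψ : a' ⟶ b') :
    (eqToHom ea ≫ ψ ≫ eqToHom eb.symm).1 ≫ pr b =
      eqToHom (congrArg pb ea) ≫ ψ.1 ≫ pr b' ≫ eqToHom (congrArg FObj.x eb).symm := by
  subst ea
  subst eb
  simp

theorem Fmap_id (U : C) : Fmap (𝒳 := 𝒳) (𝟙 U) = 𝟭 (FObj 𝒳 U) := by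
  have hobj : ∀ a : FObj 𝒳 U, (Fmap (𝟙 U)).obj a = (𝟭 (FObj 𝒳 U)).obj a := fun a => pull_id a
  refine CategoryTheory.Functor.ext hobj ?_
  intro a b φ
  symm
  apply fmapHom_eq
  refine (conj_val_pr (pull_id a) (pull_id b) φ).trans ?_
  rw [cmap_id]
  simp

theorem Fmap_comp {U V W : C} (f' : W ⟶ V) (f : V ⟶ U) :
    Fmap (𝒳 := 𝒳) (f' ≫ f) = Fmap f ⋙ Fmap f' := by
  have hobj : ∀ a : FObj 𝒳 U, (Fmap (f' ≫ f)).obj a = (Fmap f ⋙ Fmap f').obj a :=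
    fun a => pull_comp f' f a
  refine CategoryTheory.Functor.ext hobj ?_
  intro a b φ
  symm
  apply fmapHom_eq
  refine (conj_val_pr (pull_comp f' f a) (pull_comp f' f b) (fmapHom f' (fmapHom f φ))).trans ?_
  rw [eqToHom_refl, Category.comp_id, cmap_comp, fmapHom_fac, fmapHom_fac]
  simp

end Groth.Agent.H64.Split
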