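import Groth.Agent.H64.Fib.Split
import Mathlib.CategoryTheory.Bicategory.Grothendieck
import Mathlib.CategoryTheory.Bicategory.Functor.LocallyDiscrete

set_option autoImplicit false
open CategoryTheory Opposite CategoryTheory.Pseudofunctor
universe v₂ u₂ v u

namespace Groth.Agent.H64.Split

variable {C : Type u} [Category.{v} C] (𝒳 : BasedCategory.{v₂, u₂} C) [𝒳.p.IsFibered]

/-- the strict presheaf of categories of formal pullbacks -/
noncomputable def splitF : Cᵒᵖ ⥤ Cat.{v₂, max u₂ v} where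
  obj U := Cat.of (FObj 𝒳 U.unop)
  map f := (Fmap (𝒳 := 𝒳) f.unop).toCatHom
  map_id U := by
    apply Cat.ext
    exact Fmap_id U.unop
  map_comp f g := by
    apply Cat.ext
    exact Fmap_comp g.unop f.unop

/-- the total category -/
abbrev Tot : Type (max u u₂ v) := CoGrothendieck (splitF 𝒳).toPseudofunctor'

variable {𝒳}

/-- the underlying formal pullback of an object of the total category -/
def tobj (X : Tot 𝒳) : FObj 𝒳 X.base := X.fiber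

/-- the fibre component of a morphism of the total category -/
def tfib {X Y : Tot 𝒳} (m : X ⟶ Y) : tobj X ⟶ pull m.base (tobj Y) := m.fiber

theorem tfib_id (X : Tot 𝒳) : tfib (𝟙 X) = eqToHom (pull_id (tobj X)).symm := by
  show (𝟙 X : X ⟶ X).fiber = _
  rw [CoGrothendieck.categoryStruct_id_fiber]
  simp only [Functor.toPseudofunctor'_mapId, eqToIso.inv]
  erw [Cat.eqToHom_app]
  rfl

theorem tfib_comp {X Y Z : Tot 𝒳} (m : X ⟶ Y) (n : Y ⟶ Z) :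
    tfib (m ≫ n) = tfib m ≫ fmapHom m.base (tfib n) ≫
      eqToHom (pull_comp m.base n.base (tobj Z)).symm := by
  show (m ≫ n).fiber = _
  rw [CoGrothendieck.categoryStruct_comp_fiber]
  simp only [Functor.toPseudofunctor'_mapComp, eqToIso.inv]
  erw [Cat.eqToHom_app]
  rfl

theorem tot_hom_ext {X Y : Tot 𝒳} (m n : X ⟶ Y) (hb : m.base = n.base)
    (hf : tfib m = tfib n ≫ eqToHom (by rw [hb])) : m = n :=
  CoGrothendieck.Hom.ext m n hb hf

/-- constructor for morphisms of the total category -/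
def totMk {X Y : Tot 𝒳} (f : X.base ⟶ Y.base) (φ : tobj X ⟶ pull f (tobj Y)) : X ⟶ Y :=
  ⟨f, φ⟩

@[simp] theorem totMk_base {X Y : Tot 𝒳} (f : X.base ⟶ Y.base) (φ : tobj X ⟶ pull f (tobj Y)) :
    (totMk f φ).base = f := rfl

@[simp] theorem tfib_totMk {X Y : Tot 𝒳} (f : X.base ⟶ Y.base) (φ : tobj X ⟶ pull f (tobj Y)) :
    tfib (totMk f φ) = φ := rfl

/-- the underlying functor of the comparison from the total category -/
noncomputable def evFunctor : Tot 𝒳 ⥤ 𝒳.obj where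
  obj X := pb (tobj X)
  map {X Y} m := (tfib m).1 ≫ cmap m.base (tobj Y)
  map_id X := by
    rw [tfib_id, fobj_eqToHom_val]
    show eqToHom _ ≫ cmap (𝟙 X.base) (tobj X) = _
    rw [cmap_id, eqToHom_trans, eqToHom_refl]
  map_comp {X Y Z} m n := by
    rw [tfib_comp, fobj_comp_val, fobj_comp_val, fobj_eqToHom_val]
    show ((tfib m).1 ≫ (fmapHom m.base (tfib n)).1 ≫ eqToHom _) ≫
      cmap (m.base ≫ n.base) (tobj Z) = _
    rw [cmap_comp]
    simp only [Category.assoc, eqToHom_trans_assoc, eqToHom_refl, Category.id_comp]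
    rw [← Category.assoc (fmapHom m.base (tfib n)).1, fmapHom_nat]
    simp only [Category.assoc]

theorem evFunctor_map_lift {X Y : Tot 𝒳} (m : X ⟶ Y) :
    𝒳.p.IsHomLift m.base (evFunctor.map m) :=
  lift_comp_id_left 𝒳.p (tfib m).2 (cmap_lift m.base (tobj Y))

variable (𝒳) in
/-- the total category as a category over `C` -/
noncomputable abbrev TotB : BasedCategory.{max v v₂, max u u₂ v} C :=
  BasedCategory.ofFunctor (CoGrothendieck.forget (splitF 𝒳).toPseudofunctor')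

/-- the comparison from the total category, over `C` -/
noncomputable def ev : TotB 𝒳 ⥤ᵇ 𝒳 :=
  mkBasedFunctor (𝒜 := TotB 𝒳) evFunctor (fun {X Y} m => evFunctor_map_lift m)

omit [𝒳.p.IsFibered] in
theorem lift_base_unique {R S : C} {a b : 𝒳.obj} {f f' : R ⟶ S} {φ : a ⟶ b}
    (h : 𝒳.p.IsHomLift f φ) (h' : 𝒳.p.IsHomLift f' φ) : f = f' := by
  have e1 := IsHomLift.fac 𝒳.p f φ
  have e2 := IsHomLift.fac 𝒳.p f' φ
  exact e1.trans e2.symm

theorem faithful_ev : (ev (𝒳 := 𝒳)).toFunctor.Faithful := by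
  refine ⟨fun {X Y} m n h => ?_⟩
  have h' : evFunctor.map m = evFunctor.map n := h
  have hb : m.base = n.base :=
    lift_base_unique (evFunctor_map_lift m) (h' ▸ evFunctor_map_lift n)
  refine tot_hom_ext m n hb ?_
  apply fobj_hom_ext
  have l1 : 𝒳.p.IsHomLift (𝟙 X.base) (tfib n ≫ eqToHom (by rw [hb]) : tobj X ⟶ pull m.base (tobj Y)).1 :=
    (tfib n ≫ eqToHom (by rw [hb]) : tobj X ⟶ pull m.base (tobj Y)).2
  apply pb_hom_ext (pull m.base (tobj Y)) (𝟙 X.base) (tfib m).2 l1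
  have h2 := congrArg (fun k => k ≫ pr (tobj Y)) h'
  simp only [evFunctor, Category.assoc, cmap_fac] at h2
  rw [h2, fobj_comp_val, fobj_eqToHom_val, Category.assoc]
  congr 1
  have := pr_eqToHom' (a := pull n.base (tobj Y)) (a' := pull m.base (tobj Y)) (by rw [hb]) rfl
  rw [eqToHom_refl, Category.comp_id] at this
  exact this.symm

theorem full_ev : (ev (𝒳 := 𝒳)).toFunctor.Full := by
  refine ⟨fun {X Y} φ => ?_⟩
  let φ' : pb (tobj X) ⟶ pb (tobj Y) := φ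
  let f : X.base ⟶ Y.base :=
    eqToHom (pb_obj (tobj X)).symm ≫ 𝒳.p.map φ' ≫ eqToHom (pb_obj (tobj Y))
  have hφ : 𝒳.p.IsHomLift f φ' := IsHomLift.of_fac 𝒳.p f φ' (pb_obj _) (pb_obj _) rfl
  have h1 : 𝒳.p.IsHomLift (𝟙 X.base ≫ (pull f (tobj Y)).g) (φ' ≫ pr (tobj Y)) :=
    lift_of_eq 𝒳.p (lift_comp 𝒳.p hφ (pr_lift (tobj Y))) (by simp)
  let χ : tobj X ⟶ pull f (tobj Y) :=
    ⟨liftPb (pull f (tobj Y)) (𝟙 X.base) (φ' ≫ pr (tobj Y)) h1, liftPb_lift _ _ _ _⟩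
  refine ⟨totMk f χ, ?_⟩
  show χ.1 ≫ cmap f (tobj Y) = φ'
  have l1 : 𝒳.p.IsHomLift f (χ.1 ≫ cmap f (tobj Y)) :=
    lift_comp_id_left 𝒳.p χ.2 (cmap_lift f (tobj Y))
  apply pb_hom_ext (tobj Y) f l1 hφ
  rw [Category.assoc, cmap_fac]
  exact liftPb_fac (pull f (tobj Y)) (𝟙 X.base) (φ' ≫ pr (tobj Y)) h1

theorem essSurj_ev (y : 𝒳.obj) :
    ∃ (ξ : (TotB 𝒳).obj) (e : (ev (𝒳 := 𝒳)).obj ξ ≅ y), 𝒳.p.IsHomLift (𝟙 (𝒳.p.obj y)) e.hom := by
  let a : FObj 𝒳 (𝒳.p.obj y) := ⟨y, 𝟙 _⟩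
  let ξ : Tot 𝒳 := ⟨𝒳.p.obj y, a⟩
  have hc := pr_cart a
  have hl := pr_lift a
  have hiso : IsIso (pr a) :=
    Functor.IsStronglyCartesian.isIso_of_base_isIso 𝒳.p (𝟙 (𝒳.p.obj y)) (pr a)
  let e : pb a ≅ y := @asIso _ _ _ _ (pr a) hiso
  exact ⟨ξ, e, hl⟩

theorem isEquivOver_ev : FibCat.IsEquivOver (ev (𝒳 := 𝒳)) := by
  have := faithful_ev (𝒳 := 𝒳)
  have := full_ev (𝒳 := 𝒳)
  exact isEquivOver_of_fullyFaithful_of_fiberwise_essSurj (ev (𝒳 := 𝒳)) essSurj_ev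

variable (𝒳) in
theorem exists_split : ∃ (F : Cᵒᵖ ⥤ Cat.{v₂, max u₂ v})
    (E : 𝒳 ⥤ᵇ BasedCategory.ofFunctor (CoGrothendieck.forget F.toPseudofunctor')),
    FibCat.IsEquivOver E := by
  obtain ⟨d⟩ := Groth.Agent.H32.IsEquivOver.nonempty_data (isEquivOver_ev (𝒳 := 𝒳))
  exact ⟨splitF 𝒳, d.inv, isEquivOver_inv d⟩

theorem isGroupoid_fobj (hp : FibCat.IsFibGrpd 𝒳.p) (U : C) : IsGroupoid (FObj 𝒳 U) := by
  refine ⟨fun {a b} φ => ?_⟩
  have hiso : IsIso φ.1 := isIso_of_lift_id 𝒳.p hp φ.2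
  have hinv : 𝒳.p.IsHomLift (𝟙 U) (inv φ.1) := lift_inv_of_isIso 𝒳.p φ.1 φ.2
  refine ⟨⟨⟨inv φ.1, hinv⟩, ?_, ?_⟩⟩
  · apply fobj_hom_ext
    exact IsIso.hom_inv_id φ.1
  · apply fobj_hom_ext
    exact IsIso.inv_hom_id φ.1

variable (𝒳) in
theorem exists_split_grpd (hp : FibCat.IsFibGrpd 𝒳.p) : ∃ (F : Cᵒᵖ ⥤ Cat.{v₂, max u₂ v})
    (_ : ∀ U : Cᵒᵖ, IsGroupoid (F.obj U))
    (E : 𝒳 ⥤ᵇ BasedCategory.ofFunctor (CoGrothendieck.forget F.toPseudofunctor')),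
    FibCat.IsEquivOver E := by
  obtain ⟨d⟩ := Groth.Agent.H32.IsEquivOver.nonempty_data (isEquivOver_ev (𝒳 := 𝒳))
  exact ⟨splitF 𝒳, fun U => isGroupoid_fobj hp U.unop, d.inv, isEquivOver_inv d⟩

end Groth.Agent.H64.Split
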